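import Cfsg.Agent.H260.Push2

/-!
# A Krull–Schmidt type argument for `S = P × E`
-/

set_option autoImplicit false

namespace Cfsg.Agent.H213.Ks

open Subgroup
open scoped commutatorElement

variable {H : Type*} [Group H]

/-- `S = P × E` with `[a, P] = D` for noncentral `a ∈ P`. -/
structure Dp (S P E D : Subgroup H) : Prop where
  PS : P ≤ S
  ES : E ≤ S
  dec : ∀ s ∈ S, ∃ a ∈ P, ∃ e ∈ E, s = a * e
  comm : ∀ a ∈ P, ∀ e ∈ E, a * e = e * a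
  cap : ∀ a ∈ P, a ∈ E → a = 1
  DP : D ≤ P
  cD : ∀ a ∈ P, ∀ b ∈ P, a * b * a⁻¹ * b⁻¹ ∈ D
  alt : ∀ a ∈ P, (∀ b ∈ P, a * b = b * a) ∨ (∀ d ∈ D, ∃ b ∈ P, a * b * a⁻¹ * b⁻¹ = d)
  nc : ∃ a ∈ P, ∃ b ∈ P, a * b ≠ b * a
  D1 : ∃ d ∈ D, d ≠ 1

variable {S P E D : Subgroup H} (h : Dp S P E D)

include h

/-- an element of `P` commutes with `S` if it commutes with `P` -/
theorem cent_P {a : H} (ha : a ∈ P) (hc : ∀ b ∈ P, a * b = b * a) : ∀ s ∈ S, a * s = s * a := by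
  intro s hs
  obtain ⟨b, hb, e, he, rfl⟩ := h.dec s hs
  have k1 : Commute a b := hc b hb
  have k2 : Commute a e := h.comm a ha e he
  exact (k1.mul_right k2).eq

theorem cent_E {a : H} (ha : a ∈ E) (hc : ∀ b ∈ E, a * b = b * a) : ∀ s ∈ S, a * s = s * a := by
  intro s hs
  obtain ⟨b, hb, e, he, rfl⟩ := h.dec s hs
  have k1 : Commute a b := (h.comm b hb a ha).symm
  have k2 : Commute a e := hc e he
  exact (k1.mul_right k2).eq

/-- commutators with elements of `P` -/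
theorem comm_S {a : H} (ha : a ∈ P) {s : H} (hs : s ∈ S) : a * s * a⁻¹ * s⁻¹ ∈ D := by
  obtain ⟨b, hb, e, he, rfl⟩ := h.dec s hs
  have k2 : Commute a e := h.comm a ha e he
  have k3 : Commute b e := h.comm b hb e he
  have e1 : a * (b * e) * a⁻¹ * (b * e)⁻¹ = a * b * a⁻¹ * b⁻¹ := by
    calc a * (b * e) * a⁻¹ * (b * e)⁻¹ = a * b * (e * a⁻¹) * e⁻¹ * b⁻¹ := by group
      _ = a * b * (a⁻¹ * e) * e⁻¹ * b⁻¹ := by rw [k2.inv_left.eq]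
      _ = _ := by group
  rw [e1]
  exact h.cD a ha b hb

theorem comm_S' {a b e : H} (ha : ∀ b ∈ P, a * b = b * a) (haP : a ∈ P) (hb : b ∈ E) (he : e ∈ S) :
    ∃ e' ∈ E, (a * b) * e * (a * b)⁻¹ * e⁻¹ = e' := by
  refine ⟨_, ?_, rfl⟩
  obtain ⟨b', hb', e', he', rfl⟩ := h.dec e he
  have k1 : Commute a (b' * e') := cent_P h haP ha _ (mul_mem (h.PS hb') (h.ES he'))
  have k2 : Commute a b := h.comm a haP b hb
  have k3 : Commute b' b := h.comm b' hb' b hb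
  have k4 : Commute b' e' := h.comm b' hb' e' he'
  have e1 : a * b * (b' * e') * (a * b)⁻¹ * (b' * e')⁻¹ = b * e' * b⁻¹ * e'⁻¹ := by
    calc a * b * (b' * e') * (a * b)⁻¹ * (b' * e')⁻¹
        = a * (b * b') * e' * b⁻¹ * a⁻¹ * (b' * e')⁻¹ := by group
      _ = a * b' * (b * e' * b⁻¹) * (a⁻¹ * (b' * e')⁻¹) := by rw [← k3.eq]; group
      _ = a * b' * (b * e' * b⁻¹) * ((b' * e')⁻¹ * a⁻¹) := by rw [(k1.inv_left.inv_right).eq]
      _ = a * (b' * (b * e' * b⁻¹ * e'⁻¹)) * b'⁻¹ * a⁻¹ := by group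
      _ = a * ((b * e' * b⁻¹ * e'⁻¹) * b') * b'⁻¹ * a⁻¹ := by
          rw [((((k3.mul_right k4).mul_right k3.inv_right)).mul_right k4.inv_right).eq]
      _ = (a * (b * e' * b⁻¹ * e'⁻¹)) * a⁻¹ := by group
      _ = _ := by
          have k5 : Commute a e' := h.comm a haP e' he'
          rw [(((k2.mul_right k5).mul_right k2.inv_right).mul_right k5.inv_right).eq]; group
  rw [e1]
  exact mul_mem (mul_mem (mul_mem hb he') (inv_mem hb)) (inv_mem he')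

/-- **The dichotomy.** -/
theorem dich [Finite H] {x : H} (hx : ∀ s ∈ S, x * s * x⁻¹ ∈ S) (hx' : ∀ s ∈ S, x⁻¹ * s * x ∈ S) :
    (∀ a ∈ P, ∃ a₁ ∈ P, ∃ ζ, (∀ s ∈ S, ζ * s = s * ζ) ∧ x⁻¹ * a * x = a₁ * ζ) ∨
    ((∀ a ∈ P, ∃ ζ, (∀ s ∈ S, ζ * s = s * ζ) ∧ ζ ∈ S ∧ ∃ e ∈ E, x⁻¹ * a * x = ζ * e) ∧
      ∀ d ∈ D, x⁻¹ * d * x ∈ E) := by
  -- first case
  have hI : ∀ a ∈ P, ∀ a₁ ∈ P, ∀ e₁ ∈ E, x⁻¹ * a * x = a₁ * e₁ → (¬ ∀ b ∈ P, a₁ * b = b * a₁) →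
      (∀ d ∈ D, x * d * x⁻¹ ∈ D) := by
    intro a ha a₁ ha₁ e₁ he₁ haa hnc d hd
    obtain ⟨b, hb, rfl⟩ := (h.alt a₁ ha₁).resolve_left hnc d hd
    have k1 : Commute e₁ b := (h.comm b hb e₁ he₁).symm
    have e0 : a₁ * b * a₁⁻¹ * b⁻¹ = (a₁ * e₁) * b * (a₁ * e₁)⁻¹ * b⁻¹ := by
      calc a₁ * b * a₁⁻¹ * b⁻¹ = a₁ * (b * e₁) * e₁⁻¹ * a₁⁻¹ * b⁻¹ := by group
        _ = a₁ * (e₁ * b) * e₁⁻¹ * a₁⁻¹ * b⁻¹ := by rw [k1.eq]
        _ = _ := by group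
    rw [e0, ← haa]
    have e2 : x * (x⁻¹ * a * x * b * (x⁻¹ * a * x)⁻¹ * b⁻¹) * x⁻¹ =
        a * (x * b * x⁻¹) * a⁻¹ * (x * b * x⁻¹)⁻¹ := by group
    rw [e2]
    exact comm_S h ha (hx b (h.PS hb))
  have hII : ∀ a ∈ P, (¬ ∀ b ∈ P, a * b = b * a) → ∀ a₁ ∈ P, ∀ e₁ ∈ E, x⁻¹ * a * x = a₁ * e₁ →
      (∀ b ∈ P, a₁ * b = b * a₁) → (∀ d ∈ D, x⁻¹ * d * x ∈ E) := by
    intro a ha hnc a₁ ha₁ e₁ he₁ haa hc d hd
    obtain ⟨b, hb, rfl⟩ := (h.alt a ha).resolve_left hnc d hd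
    obtain ⟨e', he', h1⟩ := comm_S' h hc ha₁ he₁ (hx' b (h.PS hb))
    have e2 : x⁻¹ * (a * b * a⁻¹ * b⁻¹) * x =
        (a₁ * e₁) * (x⁻¹ * b * x) * (a₁ * e₁)⁻¹ * (x⁻¹ * b * x)⁻¹ := by
      rw [← haa]; group
    rw [e2, h1]
    exact he'
  have hexcl : (∀ d ∈ D, x * d * x⁻¹ ∈ D) → (∀ d ∈ D, x⁻¹ * d * x ∈ E) → False := by
    intro h1 h2
    obtain ⟨d, hd, hd1⟩ := h.D1
    have h3 := h2 _ (h1 d hd)
    have e : x⁻¹ * (x * d * x⁻¹) * x = d := by group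
    rw [e] at h3
    exact hd1 (h.cap d (h.DP hd) h3)
  by_cases hcase : ∃ a ∈ P, ∃ a₁ ∈ P, ∃ e₁ ∈ E, x⁻¹ * a * x = a₁ * e₁ ∧ ¬ ∀ b ∈ P, a₁ * b = b * a₁
  · left
    obtain ⟨a, ha, a₁, ha₁, e₁, he₁, haa, hnc⟩ := hcase
    have hD := hI a ha a₁ ha₁ e₁ he₁ haa hnc
    intro b hb
    by_cases hbc : ∀ c ∈ P, b * c = c * b
    · refine ⟨1, one_mem _, x⁻¹ * b * x, ?_, by rw [one_mul]⟩
      intro s hs
      have h1 := cent_P h hb hbc _ (hx s hs)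
      have h2 : x⁻¹ * (b * (x * s * x⁻¹)) * x = x⁻¹ * ((x * s * x⁻¹) * b) * x := by rw [h1]
      have e1 : x⁻¹ * (b * (x * s * x⁻¹)) * x = x⁻¹ * b * x * s := by group
      have e2 : x⁻¹ * ((x * s * x⁻¹) * b) * x = s * (x⁻¹ * b * x) := by group
      rw [e1, e2] at h2
      exact h2
    · obtain ⟨b₁, hb₁, e', he', hbb⟩ := h.dec _ (hx' b (h.PS hb))
      have hb₁nc : ¬ ∀ c ∈ P, b₁ * c = c * b₁ := by
        intro hc
        exact hexcl hD (hII b hb hbc b₁ hb₁ e' he' hbb hc)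
      refine ⟨b₁, hb₁, e', ?_, hbb⟩
      apply cent_E h he'
      intro c hc
      -- `[e', c] ∈ x⁻¹ D x = D`
      have h1 : x * (e' * c * e'⁻¹ * c⁻¹) * x⁻¹ ∈ D := by
        have k1 : Commute b₁ e' := h.comm b₁ hb₁ e' he'
        have k2 : Commute b₁ c := h.comm b₁ hb₁ c hc
        have e0 : e' * c * e'⁻¹ * c⁻¹ = (b₁ * e') * c * (b₁ * e')⁻¹ * c⁻¹ := by
          have k3 : Commute b₁ (e' * c * e'⁻¹ * c⁻¹) :=
            ((k1.mul_right k2).mul_right k1.inv_right).mul_right k2.inv_right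
          have k4 : Commute b₁⁻¹ c⁻¹ := k2.inv_left.inv_right
          calc e' * c * e'⁻¹ * c⁻¹ = (e' * c * e'⁻¹ * c⁻¹) * b₁ * b₁⁻¹ := by group
            _ = b₁ * (e' * c * e'⁻¹ * c⁻¹) * b₁⁻¹ := by rw [← k3.eq]
            _ = b₁ * e' * c * e'⁻¹ * (c⁻¹ * b₁⁻¹) := by group
            _ = b₁ * e' * c * e'⁻¹ * (b₁⁻¹ * c⁻¹) := by rw [k4.eq]
            _ = _ := by group
        rw [e0, ← hbb]
        have e2 : x * (x⁻¹ * b * x * c * (x⁻¹ * b * x)⁻¹ * c⁻¹) * x⁻¹ =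
            b * (x * c * x⁻¹) * b⁻¹ * (x * c * x⁻¹)⁻¹ := by group
        rw [e2]
        exact comm_S h hb (hx c (h.ES hc))
      -- `x` permutes `D`
      obtain ⟨d, hd, hdd⟩ : ∃ d ∈ D, x * d * x⁻¹ = x * (e' * c * e'⁻¹ * c⁻¹) * x⁻¹ := by
        have hfix : D.map (MulAut.conj x).toMonoidHom = D :=
          Cfsg.Agent.H260.Push.conj_cj' hD
        rw [← hfix] at h1
        obtain ⟨d, hd, hdd⟩ := h1
        exact ⟨d, hd, hdd⟩
      have h2 : d = e' * c * e'⁻¹ * c⁻¹ := mul_left_cancel (mul_right_cancel hdd)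
      have h3 : d = 1 := h.cap d (h.DP hd) (by
        rw [h2]; exact mul_mem (mul_mem (mul_mem he' hc) (inv_mem he')) (inv_mem hc))
      rw [h3] at h2
      have h4 := h2.symm
      rw [mul_inv_eq_one, mul_inv_eq_iff_eq_mul] at h4
      exact h4
  · right
    push Not at hcase
    refine ⟨?_, ?_⟩
    · intro a ha
      obtain ⟨a₁, ha₁, e₁, he₁, haa⟩ := h.dec _ (hx' a (h.PS ha))
      exact ⟨a₁, cent_P h ha₁ (hcase a ha a₁ ha₁ e₁ he₁ haa), h.PS ha₁, e₁, he₁, haa⟩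
    · obtain ⟨a, ha, b, hb, hab⟩ := h.nc
      obtain ⟨a₁, ha₁, e₁, he₁, haa⟩ := h.dec _ (hx' a (h.PS ha))
      exact hII a ha (fun hc => hab (hc b hb)) a₁ ha₁ e₁ he₁ haa (hcase a ha a₁ ha₁ e₁ he₁ haa)

/-- in the first case `x` normalises `C_S(P)` -/
theorem case_one {x : H} (hx : ∀ s ∈ S, x * s * x⁻¹ ∈ S)
    (h1 : ∀ a ∈ P, ∃ a₁ ∈ P, ∃ ζ, (∀ s ∈ S, ζ * s = s * ζ) ∧ x⁻¹ * a * x = a₁ * ζ) :
    ∀ s ∈ S ⊓ centralizer (P : Set H), x * s * x⁻¹ ∈ S ⊓ centralizer (P : Set H) := by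
  rintro s ⟨hs, hs'⟩
  refine ⟨hx s hs, mem_centralizer_iff.mpr ?_⟩
  intro a ha
  obtain ⟨a₁, ha₁, ζ, hζ, haa⟩ := h1 a ha
  have k1 : Commute a₁ s := mem_centralizer_iff.mp hs' a₁ ha₁
  have k2 : Commute ζ s := hζ s hs
  have k3 : Commute (x⁻¹ * a * x) s := by rw [haa]; exact k1.mul_left k2
  have e1 : a * (x * s * x⁻¹) = x * ((x⁻¹ * a * x) * s) * x⁻¹ := by group
  have e2 : x * s * x⁻¹ * a = x * (s * (x⁻¹ * a * x)) * x⁻¹ := by group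
  rw [e1, e2, k3.eq]

/-- in the second case `x t x⁻¹` normalises `C_S(P)` if `t` normalises `S` and centralises `E` -/
theorem case_two {x t : H} (hx : ∀ s ∈ S, x * s * x⁻¹ ∈ S) (hx' : ∀ s ∈ S, x⁻¹ * s * x ∈ S)
    (ht : ∀ s ∈ S, t * s * t⁻¹ ∈ S) (ht' : ∀ s ∈ S, t⁻¹ * s * t ∈ S) (htE : ∀ e ∈ E, t * e = e * t)
    (h1 : ∀ a ∈ P, ∃ ζ, (∀ s ∈ S, ζ * s = s * ζ) ∧ ζ ∈ S ∧ ∃ e ∈ E, x⁻¹ * a * x = ζ * e) :
    ∀ s ∈ S ⊓ centralizer (P : Set H),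
      (x * t * x⁻¹) * s * (x * t * x⁻¹)⁻¹ ∈ S ⊓ centralizer (P : Set H) := by
  rintro s ⟨hs, hs'⟩
  refine ⟨?_, mem_centralizer_iff.mpr ?_⟩
  · have h2 := hx _ (ht _ (hx' s hs))
    have e : x * (t * (x⁻¹ * s * x) * t⁻¹) * x⁻¹ = (x * t * x⁻¹) * s * (x * t * x⁻¹)⁻¹ := by group
    rw [SetLike.mem_coe, ← e]
    exact h2
  · intro a ha
    obtain ⟨ζ, hζ, hζS, e, he, haa⟩ := h1 a ha
    -- `(x t x⁻¹)⁻¹ a (x t x⁻¹) = ζ'' a`
    have hte : t⁻¹ * e * t = e := by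
      have : Commute t e := htE e he
      rw [this.inv_left.eq, inv_mul_cancel_right]
    set ζ' := t⁻¹ * ζ * t with hζ'
    have hζ'c : ∀ s ∈ S, ζ' * s = s * ζ' := by
      intro s hs
      have h2 := hζ _ (ht s hs)
      have h3 : t⁻¹ * (ζ * (t * s * t⁻¹)) * t = t⁻¹ * ((t * s * t⁻¹) * ζ) * t := by rw [h2]
      have e1 : t⁻¹ * (ζ * (t * s * t⁻¹)) * t = ζ' * s := by rw [hζ']; group
      have e2 : t⁻¹ * ((t * s * t⁻¹) * ζ) * t = s * ζ' := by rw [hζ']; group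
      rw [e1, e2] at h3
      exact h3
    have h2 : t⁻¹ * (x⁻¹ * a * x) * t = ζ' * e := by
      rw [haa]
      calc t⁻¹ * (ζ * e) * t = (t⁻¹ * ζ * t) * (t⁻¹ * e * t) := by group
        _ = _ := by rw [hte]
    set y := x * t * x⁻¹ with hy
    -- `y⁻¹ a y = x ζ' e x⁻¹ = x (ζ' ζ⁻¹) x⁻¹ a`
    have h3 : y⁻¹ * a * y = (x * (ζ' * ζ⁻¹) * x⁻¹) * a := by
      have e1 : y⁻¹ * a * y = x * (t⁻¹ * (x⁻¹ * a * x) * t) * x⁻¹ := by rw [hy]; group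
      have e2 : e = ζ⁻¹ * (x⁻¹ * a * x) := by rw [haa]; group
      rw [e1, h2]
      nth_rewrite 1 [e2]
      group
    have h4 : Commute (x * (ζ' * ζ⁻¹) * x⁻¹) s := by
      have k1 : Commute ζ' (x⁻¹ * s * x) := hζ'c _ (hx' s hs)
      have k2 : Commute ζ (x⁻¹ * s * x) := hζ _ (hx' s hs)
      have k3 := (k1.mul_left k2.inv_left).eq
      have e1 : x * (ζ' * ζ⁻¹) * x⁻¹ * s = x * ((ζ' * ζ⁻¹) * (x⁻¹ * s * x)) * x⁻¹ := by group
      have e2 : s * (x * (ζ' * ζ⁻¹) * x⁻¹) = x * ((x⁻¹ * s * x) * (ζ' * ζ⁻¹)) * x⁻¹ := by group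
      change x * (ζ' * ζ⁻¹) * x⁻¹ * s = s * (x * (ζ' * ζ⁻¹) * x⁻¹)
      rw [e1, e2, k3]
    have h5 : Commute a s := mem_centralizer_iff.mp hs' a ha
    have h6 : Commute (y⁻¹ * a * y) s := by rw [h3]; exact h4.mul_left h5
    have e1 : a * (y * s * y⁻¹) = y * ((y⁻¹ * a * y) * s) * y⁻¹ := by group
    have e2 : y * s * y⁻¹ * a = y * (s * (y⁻¹ * a * y)) * y⁻¹ := by group
    rw [e1, e2, h6.eq]

/-- the derived group of `C_S(P)` is the derived group of `E` -/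
theorem derived : ⁅S ⊓ centralizer (P : Set H), S ⊓ centralizer (P : Set H)⁆ = ⁅E, E⁆ := by
  apply le_antisymm
  · rw [commutator_le]
    rintro s ⟨hs, hs'⟩ s' ⟨hs1, hs1'⟩
    obtain ⟨a, ha, e, he, rfl⟩ := h.dec s hs
    obtain ⟨a', ha', e', he', rfl⟩ := h.dec s' hs1
    have hac : ∀ b ∈ P, a * b = b * a := by
      intro b hb
      have k1 : Commute b (a * e) := mem_centralizer_iff.mp hs' b hb
      have k2 : Commute b e := h.comm b hb e he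
      have k3 := k1.mul_right k2.inv_right
      rw [mul_inv_cancel_right] at k3
      exact k3.eq.symm
    have hac' : ∀ b ∈ P, a' * b = b * a' := by
      intro b hb
      have k1 : Commute b (a' * e') := mem_centralizer_iff.mp hs1' b hb
      have k2 : Commute b e' := h.comm b hb e' he'
      have k3 := k1.mul_right k2.inv_right
      rw [mul_inv_cancel_right] at k3
      exact k3.eq.symm
    have ca := cent_P h ha hac
    have ca' := cent_P h ha' hac'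
    have heS := h.ES he
    have heS' := h.ES he'
    have k1 : Commute a e := ca e heS
    have k2 : Commute a e' := ca e' heS'
    have k3 : Commute a a' := ca a' (h.PS ha')
    have k4 : Commute a' e := ca' e heS
    have k5 : Commute a' e' := ca' e' heS'
    have e1 : ⁅a * e, a' * e'⁆ = ⁅e, e'⁆ := by
      simp only [commutatorElement_def]
      calc a * e * (a' * e') * (a * e)⁻¹ * (a' * e')⁻¹
          = a * (e * a') * e' * e⁻¹ * a⁻¹ * (a' * e')⁻¹ := by group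
        _ = a * a' * (e * e' * e⁻¹) * (a⁻¹ * (a' * e')⁻¹) := by rw [← k4.eq]; group
        _ = a * a' * (e * e' * e⁻¹) * ((a' * e')⁻¹ * a⁻¹) := by
            rw [((k3.mul_right k2).inv_left.inv_right).eq]
        _ = a * (a' * (e * e' * e⁻¹ * e'⁻¹)) * a'⁻¹ * a⁻¹ := by group
        _ = a * ((e * e' * e⁻¹ * e'⁻¹) * a') * a'⁻¹ * a⁻¹ := by
            rw [((((k4.mul_right k5).mul_right k4.inv_right)).mul_right k5.inv_right).eq]
        _ = (a * (e * e' * e⁻¹ * e'⁻¹)) * a⁻¹ := by group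
        _ = _ := by
            rw [(((k1.mul_right k2).mul_right k1.inv_right).mul_right k2.inv_right).eq]; group
    rw [e1]
    exact commutator_mem_commutator he he'
  · apply commutator_mono
    · intro e he
      exact ⟨h.ES he, mem_centralizer_iff.mpr fun b hb => h.comm b hb e he⟩
    · intro e he
      exact ⟨h.ES he, mem_centralizer_iff.mpr fun b hb => h.comm b hb e he⟩

end Cfsg.Agent.H213.Ks
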