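import Cfsg.Agent.H213.Qd1

/-!
# Rank one pushing up for `p ≥ 5`: the structure `G = G₀ × E`, second part
-/

set_option autoImplicit false
set_option linter.unusedSectionVars false

namespace Cfsg.Agent.H213.Qd

open Subgroup Cfsg.Agent.H260.Push Matrix Cfsg.Agent.H213.Rk
open Cfsg.Agent.H260.Psl (dg dg_conj)
open Cfsg.Agent.LieClassical.SLTwoUnipotent (u l u_add u_neg u_zero)
open scoped commutatorElement Pointwise

variable {G : Type*} [Group G]

/-- The structure `G = V₁ X₀ E`. -/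
structure QD (F : Type*) [Field F] (p : ℕ) (S T : Subgroup G) (ρ : G →* SpecialLinearGroup (Fin 2) F)
    (ψ : G → (Fin 2 → F)) (V₁ X₀ E : Subgroup G) : Prop where
  V1T : V₁ ≤ T
  V1n : V₁.Normal
  add : ∀ v ∈ V₁, ∀ w ∈ V₁, ψ (v * w) = ψ v + ψ w
  inj : ∀ v ∈ V₁, ψ v = 0 → v = 1
  sur : ∀ f, ∃ v ∈ V₁, ψ v = f
  act : ∀ g : G, ∀ v ∈ V₁, ψ (g * v * g⁻¹) = (ρ g).1.mulVec (ψ v)
  V1c : ∀ v ∈ V₁, ∀ t ∈ T, t * v = v * t
  ET : E ≤ T
  dec : ∀ g : G, ∃ v ∈ V₁, ∃ x ∈ X₀, ∃ e ∈ E, g = v * x * e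
  X0E : ∀ x ∈ X₀, ∀ e ∈ E, x * e = e * x
  X0T : ∀ x ∈ X₀, x ∈ T → x = 1
  V1E : ∀ v ∈ V₁, v ∈ E → v = 1
  X0s : ∀ A, ∃ x ∈ X₀, ρ x = A
  ker : ρ.ker = T
  tor : ∀ k : F, ∀ hk : k ≠ 0, ∃ x ∈ X₀, ρ x = dg k hk ∧ (orderOf x).Coprime p
  decT : ∀ t ∈ T, ∃ v ∈ V₁, ∃ e ∈ E, t = v * e

section Main

variable [Finite G] {F : Type*} [Field F] [Fintype F] {p : ℕ} [hp : Fact p.Prime] {S T M : Subgroup G}
  (c : Core p (Fintype.card F) S T M) (n : Core.Nat' p (Fintype.card F) S T M)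
  {x y : F → G} {g₀ : G} (fr : Frame F S T M x y g₀)
  (hV : ∀ v ∈ cen T, v ^ p = 1)
  {ρ : G →* SpecialLinearGroup (Fin 2) F} {ψ : G → (Fin 2 → F)} (ns : NatSec F (cen T) (center G) ρ ψ)
  (hρx : ∀ a, ρ (x a) = u a)
  (hk : ρ.ker = T) (hp2 : p ≠ 2) {α : S ≃* S} (o : One S T α) {z : G}
  (hz : ρ z = dg (-1 : F) (neg_ne_zero.mpr one_ne_zero)) (hzz : z * z = 1)
  (hkF : ∃ j, Fintype.card F = p ^ j) (h2 : (2 : F) ≠ 0) (h3 : (3 : F) ≠ 0)

include c hk in
theorem rho_S (fr : Frame F S T M x y g₀) (hρx : ∀ a, ρ (x a) = u a) {s : G} (hs : s ∈ S) : ∃ a, ρ s = u a := by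
  obtain ⟨a, ha⟩ := fr.xsur s hs
  have h2 : (x a)⁻¹ * s ∈ ρ.ker := by rw [hk]; exact ha
  rw [MonoidHom.mem_ker, map_mul, map_inv, inv_mul_eq_one, hρx] at h2
  exact ⟨a, h2.symm⟩

include c hk in
theorem mem_S_of_rho (fr : Frame F S T M x y g₀) (hρx : ∀ a, ρ (x a) = u a) {s : G} {a : F}
    (h : ρ s = u a) : s ∈ S := by
  have h1 : (x a)⁻¹ * s ∈ T := by
    rw [← hk, MonoidHom.mem_ker, map_mul, map_inv, hρx, h, inv_mul_cancel]
  have := S.mul_mem (fr.xS a) (c.le h1)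
  rwa [mul_inv_cancel_left] at this

include c fr hV ns hρx hk hp2 o hz hzz hkF h2 h3

/-- `ρ` maps `X₀` onto `SL₂(F)` -/
theorem X0_sur (A : SpecialLinearGroup (Fin 2) F) : ∃ x ∈ X0 p z, ρ x = A := by
  set N := (X0 p z).map ρ with hN
  have hNn : N.Normal := by
    constructor
    rintro _ ⟨r, hr, rfl⟩ B
    obtain ⟨g, rfl⟩ := ns.rsur B
    obtain ⟨w, hw, r', hr', rfl⟩ := G_dec c hV ns hk hp2 o hz hzz g
    have hρw : ρ w = 1 := by
      have : w ∈ ρ.ker := by rw [hk]; exact cen_le T hw.1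
      exact this
    rw [map_mul, hρw, one_mul]
    exact ⟨r' * r * r'⁻¹, X0_conj hr' hr, by simp⟩
  have hu : ∀ a : F, u a ∈ N := by
    intro a
    obtain ⟨t, ht, htρ, -⟩ := X0_dg c hV ns hk hp2 o hz hzz hkF (2 : F) h2
    have h4 : dg (2 : F) h2 ∈ N := ⟨t, ht, htρ⟩
    have h5 := N.mul_mem h4 (hNn.conj_mem _ (N.inv_mem h4) (u (3⁻¹ * a)))
    have e : dg (2 : F) h2 * (u (3⁻¹ * a) * (dg (2 : F) h2)⁻¹ * (u (3⁻¹ * a))⁻¹) =
        (dg (2 : F) h2 * u (3⁻¹ * a) * (dg (2 : F) h2)⁻¹) * (u (3⁻¹ * a))⁻¹ := by group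
    rw [e, dg_conj, ← u_neg, ← u_add] at h5
    have h6 : (2 : F) ^ 2 * (3⁻¹ * a) + -(3⁻¹ * a) = a := by
      field_simp
      ring
    rwa [h6] at h5
  have htop : N = ⊤ := by
    have h4 : (⊤ : Subgroup G) ≤ N.comap ρ := by
      rw [← c.gen g₀ fr.gM]
      apply sup_le
      · intro s hs
        obtain ⟨a, ha⟩ := rho_S c hk fr hρx hs
        rw [Subgroup.mem_comap, ha]
        exact hu a
      · intro s hs
        rw [mem_cj] at hs
        obtain ⟨a, ha⟩ := rho_S c hk fr hρx hs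
        rw [Subgroup.mem_comap]
        have h5 := hNn.conj_mem _ (hu a) (ρ g₀)
        rw [← ha, ← map_mul, ← map_inv, ← map_mul] at h5
        have e : g₀ * (g₀⁻¹ * s * g₀) * g₀⁻¹ = s := by group
        rwa [e] at h5
    rw [eq_top_iff]
    intro B _
    obtain ⟨g, rfl⟩ := ns.rsur B
    exact h4 (mem_top g)
  have : A ∈ N := by rw [htop]; trivial
  exact this

/-- `X₀ ∩ S` is abelian -/
theorem X0S_comm {s s' : G} (hs : s ∈ X0 p z) (hsS : s ∈ S) (hs' : s' ∈ X0 p z) (hsS' : s' ∈ S) :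
    s * s' = s' * s := by
  have hTn := c.normT
  have hXn := c.normX
  have hV1n := V1_normal c hV ns hk hp2 hz (z := z)
  set V₁ := V1 T z (fun _ ha _ hb => c.cenT_comm ha hb) with hV₁
  have hXE := fun r (hr : r ∈ X0 p z) e (he : e ∈ T) (hze : z * e = e * z) =>
    X0_E c hV ns hk hp2 o hz hzz hr he hze
  have hV1z : ∀ v ∈ V₁, z * v = v * z → v = 1 := by
    intro v hv hzv
    have h4 := hv.2
    rw [hzv, mul_inv_cancel_right] at h4
    have h5 : v ^ 2 = 1 := by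
      rw [pow_two]; nth_rewrite 1 [h4]; exact inv_mul_cancel v
    have h6 : orderOf v ∣ Nat.gcd 2 p := Nat.dvd_gcd (orderOf_dvd_of_pow_eq_one h5)
      (orderOf_dvd_of_pow_eq_one (hV v hv.1))
    have h7 : Nat.gcd 2 p = 1 := (Nat.coprime_primes Nat.prime_two hp.out).mpr (Ne.symm hp2)
    rw [h7] at h6
    exact orderOf_eq_one_iff.mp (Nat.dvd_one.mp h6)
  -- `s e w ∈ V'` with `e` central in `C_T(z)`
  have key : ∀ s ∈ X0 p z, s ∈ S → ∃ e ∈ T, z * e = e * z ∧ (∀ y ∈ T, z * y = y * z → e * y = y * e) ∧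
      ∃ w ∈ V₁, s * e * w ∈ im α (cen T) := by
    intro s hs hsS
    obtain ⟨v', hv', t, ht, hst⟩ := o.d1 s hsS
    obtain ⟨w, hw, e, he, hze, rfl⟩ := T_dec c hV ns hk hp2 o hz hzz ht
    have hew : e * w = w * e := cen_comm hw.1 he
    have hmem : s * e⁻¹ * w⁻¹ ∈ im α (cen T) := by
      have : s * e⁻¹ * w⁻¹ = v' := by rw [hst]; group
      rw [this]; exact hv'
    have hze' : z * e⁻¹ = e⁻¹ * z := by
      have : Commute z e := hze
      exact this.inv_right.eq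
    refine ⟨e⁻¹, inv_mem he, hze', ?_, w⁻¹, inv_mem hw, hmem⟩
    intro y hy hzy
    obtain ⟨v, hv, k, hkk, hyk⟩ := o.decT c hy
    obtain ⟨v₁, hv₁, ζ, hζ, rfl⟩ := V_dec c hV ns hp2 hz hv
    have hkc := o.comm' c hmem hkk.2
    -- `k = (v₁ ζ)⁻¹ y`
    have hk' : k = (v₁ * ζ)⁻¹ * y := by rw [hyk]; group
    have hζc : ∀ g : G, Commute g ζ := fun g => mem_center_iff.mp hζ g
    have k1 : Commute (v₁⁻¹ * y) (s * e⁻¹ * w⁻¹) := by
      have h4 : v₁⁻¹ * y = ζ * k := by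
        rw [hk', _root_.mul_inv_rev]
        have := (hζc v₁⁻¹).eq
        calc v₁⁻¹ * y = ζ * (ζ⁻¹ * v₁⁻¹) * y := by group
          _ = ζ * (ζ⁻¹ * v₁⁻¹ * y) := by group
      rw [h4]
      exact ((hζc _).symm).mul_left hkc
    have c1 : Commute y s := (hXE s hs y hy hzy).symm
    have c2 : Commute y w⁻¹ := (show Commute y w from cen_comm hw.1 hy).inv_right
    have c3 : Commute e⁻¹ v₁⁻¹ := (show Commute e v₁ from cen_comm hv₁.1 he).inv_left.inv_right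
    have c4 : Commute w⁻¹ v₁⁻¹ := (show Commute w v₁ from c.cenT_comm hw.1 hv₁.1).inv_left.inv_right
    have h5 : v₁⁻¹ * y * (s * e⁻¹ * w⁻¹) = s * e⁻¹ * w⁻¹ * (v₁⁻¹ * y) := k1.eq
    have h6 : v₁⁻¹ * y * (s * e⁻¹ * w⁻¹) = v₁⁻¹ * s * (y * e⁻¹) * w⁻¹ := by
      calc v₁⁻¹ * y * (s * e⁻¹ * w⁻¹) = v₁⁻¹ * (y * s) * e⁻¹ * w⁻¹ := by group
        _ = _ := by rw [c1.eq]; group
    have h7 : s * e⁻¹ * w⁻¹ * (v₁⁻¹ * y) = s * v₁⁻¹ * (e⁻¹ * y) * w⁻¹ := by
      calc s * e⁻¹ * w⁻¹ * (v₁⁻¹ * y) = s * e⁻¹ * (w⁻¹ * v₁⁻¹) * y := by group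
        _ = s * (e⁻¹ * v₁⁻¹) * w⁻¹ * y := by rw [c4.eq]; group
        _ = s * v₁⁻¹ * e⁻¹ * (w⁻¹ * y) := by rw [c3.eq]; group
        _ = _ := by rw [← c2.eq]; group
    rw [h6, h7] at h5
    have h8 : v₁ * s⁻¹ * v₁⁻¹ * s = (e⁻¹ * y) * (y * e⁻¹)⁻¹ := by
      have h9 : v₁⁻¹ * s * (y * e⁻¹) = s * v₁⁻¹ * (e⁻¹ * y) := mul_right_cancel h5
      calc v₁ * s⁻¹ * v₁⁻¹ * s = v₁ * s⁻¹ * (v₁⁻¹ * s * (y * e⁻¹)) * (y * e⁻¹)⁻¹ := by group
        _ = v₁ * s⁻¹ * (s * v₁⁻¹ * (e⁻¹ * y)) * (y * e⁻¹)⁻¹ := by rw [h9]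
        _ = _ := by group
    have h9 : v₁ * s⁻¹ * v₁⁻¹ * s ∈ V₁ := by
      have := mul_mem hv₁ (hV1n.conj_mem _ (inv_mem hv₁) s⁻¹)
      have e1 : v₁ * (s⁻¹ * v₁⁻¹ * s⁻¹⁻¹) = v₁ * s⁻¹ * v₁⁻¹ * s := by group
      rwa [e1] at this
    have h10 := hV1z _ h9 (by
      rw [h8]
      have q1 : Commute z e⁻¹ := hze'
      have q2 : Commute z y := hzy
      exact ((q1.mul_right q2).mul_right (q2.mul_right q1).inv_right).eq)
    rw [h8, mul_inv_eq_one] at h10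
    exact h10
  obtain ⟨e, he, hze, hec, w, hw, h4⟩ := key s hs hsS
  obtain ⟨e', he', hze', hec', w', hw', h5⟩ := key s' hs' hsS'
  -- the two elements of `V'` commute
  have h6 : Commute (s * e * w) (s' * e' * w') := by
    have := o.comm' c h5 (im_mono (cen_le T) h4)
    exact this
  have c1 : Commute e s := (hXE s hs e he hze).symm
  have c2 : Commute e s' := (hXE s' hs' e he hze).symm
  have c3 : Commute e' s := (hXE s hs e' he' hze').symm
  have c4 : Commute e' s' := (hXE s' hs' e' he' hze').symm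
  have c5 : Commute e e' := hec e' he' hze'
  have c6 : Commute e w := cen_comm hw.1 he
  have c7 : Commute e w' := cen_comm hw'.1 he
  have c8 : Commute e' w := cen_comm hw.1 he'
  have c9 : Commute e' w' := cen_comm hw'.1 he'
  have h7 : Commute (s * w) (s' * w') := by
    have q1 : s * e * w = (s * w) * e := by rw [mul_assoc, c6.eq, mul_assoc]
    have q2 : s' * e' * w' = (s' * w') * e' := by rw [mul_assoc, c9.eq, mul_assoc]
    rw [q1, q2] at h6
    have q3 : Commute e⁻¹ ((s' * w') * e') := ((c2.mul_right c7).mul_right c5).inv_left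
    have q4 : Commute (s * w) ((s' * w') * e') := by
      have := h6.mul_left q3
      rwa [mul_assoc (s * w), mul_inv_cancel, mul_one] at this
    have q5 : Commute (s * w) e'⁻¹ := ((c3.mul_right c8).inv_left).symm
    have := q4.mul_right q5
    rwa [mul_assoc (s' * w'), mul_inv_cancel, mul_one] at this
  have h8 : (s' * s)⁻¹ * (s * s') = (s⁻¹ * w' * s) * w * ((s'⁻¹ * w * s') * w')⁻¹ := by
    have h9 : s * w * (s' * w') = s' * w' * (s * w) := h7
    have e1 : s * w * (s' * w') = (s * s') * ((s'⁻¹ * w * s') * w') := by group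
    have e2 : s' * w' * (s * w) = (s' * s) * ((s⁻¹ * w' * s) * w) := by group
    rw [e1, e2] at h9
    calc (s' * s)⁻¹ * (s * s') = (s' * s)⁻¹ * ((s * s') * ((s'⁻¹ * w * s') * w')) *
          ((s'⁻¹ * w * s') * w')⁻¹ := by group
      _ = (s' * s)⁻¹ * ((s' * s) * ((s⁻¹ * w' * s) * w)) * ((s'⁻¹ * w * s') * w')⁻¹ := by rw [h9]
      _ = _ := by group
  have h9 : (s' * s)⁻¹ * (s * s') ∈ V₁ := by
    rw [h8]
    have q1 : s⁻¹ * w' * s ∈ V₁ := by
      have := hV1n.conj_mem _ hw' s⁻¹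
      rwa [inv_inv] at this
    have q2 : s'⁻¹ * w * s' ∈ V₁ := by
      have := hV1n.conj_mem _ hw s'⁻¹
      rwa [inv_inv] at this
    exact mul_mem (mul_mem q1 hw) (inv_mem (mul_mem q2 hw'))
  have h10 := hV1z _ h9 (by
    have q1 : Commute z s := X0_comm hs
    have q2 : Commute z s' := X0_comm hs'
    exact ((q2.mul_right q1).inv_right.mul_right (q1.mul_right q2)).eq)
  rw [inv_mul_eq_one] at h10
  exact h10.symm

/-- `X₀ ∩ T = 1` -/
theorem X0_T {d : G} (hd : d ∈ X0 p z) (hdT : d ∈ T) : d = 1 := by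
  have hTn := c.normT
  -- `G = X₀ S`
  have hGS : ∀ g : G, ∃ a ∈ X0 p z, ∃ s ∈ S, g = a * s := by
    intro g
    obtain ⟨a, ha, hρ⟩ := X0_sur c fr hV ns hρx hk hp2 o hz hzz hkF h2 h3 (ρ g)
    refine ⟨a, ha, a⁻¹ * g, ?_, by group⟩
    apply c.le
    rw [← hk, MonoidHom.mem_ker, map_mul, map_inv, hρ, inv_mul_cancel]
  -- orders
  have hcard : Nat.card (X0 p z) * Nat.card S = Nat.card G * Nat.card (X0 p z ⊓ S : Subgroup G) := by
    rw [← Lib.ProductSet.card_mul_card_inf (X0 p z) S]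
    congr 1
    have : ((X0 p z : Set G) * (S : Set G)) = Set.univ := by
      rw [Set.eq_univ_iff_forall]
      intro g
      obtain ⟨a, ha, s, hs, rfl⟩ := hGS g
      exact Set.mul_mem_mul ha hs
    rw [this]
    exact Nat.card_congr (Equiv.Set.univ G)
  have hSi := c.syl
  obtain ⟨P, hP⟩ := hSi
  have hidx : ¬ p ∣ S.index := by rw [← hP]; exact P.not_dvd_index
  have h4 : ((X0 p z ⊓ S).subgroupOf (X0 p z)).index = S.index := by
    have e1 := Subgroup.card_mul_index ((X0 p z ⊓ S).subgroupOf (X0 p z))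
    rw [Nat.card_congr (Subgroup.subgroupOfEquivOfLe (inf_le_left : X0 p z ⊓ S ≤ X0 p z)).toEquiv] at e1
    have e2 := Subgroup.card_mul_index S
    rw [← e1, ← e2] at hcard
    have hpos1 : 0 < Nat.card (X0 p z ⊓ S : Subgroup G) := Nat.card_pos
    have hpos2 : 0 < Nat.card S := Nat.card_pos
    have : (Nat.card (X0 p z ⊓ S : Subgroup G) * Nat.card S) * ((X0 p z ⊓ S).subgroupOf (X0 p z)).index =
        (Nat.card (X0 p z ⊓ S : Subgroup G) * Nat.card S) * S.index := by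
      calc _ = Nat.card (X0 p z ⊓ S : Subgroup G) * ((X0 p z ⊓ S).subgroupOf (X0 p z)).index *
            Nat.card S := by ring
        _ = _ := by rw [hcard]; ring
    exact Nat.eq_of_mul_eq_mul_left (Nat.mul_pos hpos1 hpos2) this
  have h5 : (⟨d, hd⟩ : X0 p z) = 1 := by
    apply transfer_central (p := p) ((X0 p z ⊓ S).subgroupOf (X0 p z))
    · apply IsPGroup.comap_subtype
      exact c.pgS.to_le inf_le_right
    · intro a ha b hb
      apply Subtype.ext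
      exact X0S_comm c fr hV ns hρx hk hp2 o hz hzz hkF h2 h3 a.2 ha.2 b.2 hb.2
    · rw [h4]
      exact ((hp.out.coprime_iff_not_dvd).mpr hidx).symm
    · rw [eq_top_iff]
      have h6 : X0 p z ≤ (closure {r : X0 p z | (orderOf r).Coprime p}).map (X0 p z).subtype := by
        conv_lhs => rw [X0]
        rw [closure_le]
        rintro r ⟨hr, hr'⟩
        have hr0 : r ∈ X0 p z := Subgroup.subset_closure ⟨hr, hr'⟩
        refine ⟨⟨r, hr0⟩, Subgroup.subset_closure ?_, rfl⟩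
        change (orderOf (⟨r, hr0⟩ : X0 p z)).Coprime p
        rw [Subgroup.orderOf_mk]
        exact hr'
      intro r _
      obtain ⟨r', hr', hrr⟩ := h6 r.2
      have : r' = r := Subtype.ext hrr
      rwa [this] at hr'
    · exact ⟨hd, c.le hdT⟩
    · rw [mem_center_iff]
      intro r
      apply Subtype.ext
      exact X0_E c hV ns hk hp2 o hz hzz r.2 hdT (X0_comm hd)
  exact congrArg Subtype.val h5

/-- the structure -/
theorem exists_QD : QD F p S T ρ ψ (V1 T z (fun _ ha _ hb => c.cenT_comm ha hb)) (X0 p z)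
    (T ⊓ centralizer ({z} : Set G)) := by
  have hV1n := V1_normal c hV ns hk hp2 hz (z := z)
  have hcz : ∀ e : G, e ∈ centralizer ({z} : Set G) ↔ z * e = e * z := fun e => by
    rw [mem_centralizer_singleton_iff]; exact eq_comm
  have hcent : ∀ v ∈ V1 T z (fun _ ha _ hb => c.cenT_comm ha hb), z * v = v * z → v = 1 := by
    intro v hv hzv
    have h4 := hv.2
    rw [hzv, mul_inv_cancel_right] at h4
    have h5 : v ^ 2 = 1 := by
      rw [pow_two]; nth_rewrite 1 [h4]; exact inv_mul_cancel v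
    have h6 : orderOf v ∣ Nat.gcd 2 p := Nat.dvd_gcd (orderOf_dvd_of_pow_eq_one h5)
      (orderOf_dvd_of_pow_eq_one (hV v hv.1))
    have h7 : Nat.gcd 2 p = 1 := (Nat.coprime_primes Nat.prime_two hp.out).mpr (Ne.symm hp2)
    rw [h7] at h6
    exact orderOf_eq_one_iff.mp (Nat.dvd_one.mp h6)
  refine
    { V1T := fun v hv => cen_le T hv.1, V1n := hV1n, add := fun v hv w hw => ns.add v hv.1 w hw.1,
      inj := ?_, sur := ?_, act := fun g v hv => ns.act g v hv.1, V1c := fun v hv t ht => cen_comm hv.1 ht,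
      ET := inf_le_left, dec := ?_, X0E := ?_, X0T := ?_, V1E := ?_, X0s := ?_, ker := hk, tor := ?_,
      decT := ?_ }
  · intro v hv h0
    rw [ns.ker v hv.1] at h0
    exact hcent v hv (mem_center_iff.mp h0 z)
  · intro f
    obtain ⟨v, hv, rfl⟩ := ns.sur f
    obtain ⟨w, hw, ζ, hζ, rfl⟩ := V_dec c hV ns hp2 hz hv
    refine ⟨w, hw, ?_⟩
    have hζX : ζ ∈ cen T := c.Zs_le (c.center_le hζ)
    rw [ns.add w hw.1 ζ hζX, (ns.ker ζ hζX).mpr hζ, add_zero]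
  · intro g
    obtain ⟨w, hw, r, hr, rfl⟩ := G_dec c hV ns hk hp2 o hz hzz g
    obtain ⟨r', hr', hρ⟩ := X0_sur c fr hV ns hρx hk hp2 o hz hzz hkF h2 h3 (ρ r)
    refine ⟨w, hw, r', hr', r'⁻¹ * r, ⟨?_, ?_⟩, by group⟩
    · have : r'⁻¹ * r ∈ T := by
        rw [← hk, MonoidHom.mem_ker, map_mul, map_inv, hρ, inv_mul_cancel]
      exact this
    · apply (hcz _).mpr
      have q1 : Commute z r := hr
      have q2 : Commute z r' := X0_comm hr'
      exact (q2.inv_right.mul_right q1).eq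
  · rintro r hr e ⟨he, he'⟩
    exact X0_E c hV ns hk hp2 o hz hzz hr he ((hcz e).mp he')
  · intro r hr hrT
    exact X0_T c fr hV ns hρx hk hp2 o hz hzz hkF h2 h3 hr hrT
  · rintro v hv ⟨-, hv'⟩
    exact hcent v hv ((hcz v).mp hv')
  · intro A
    exact X0_sur c fr hV ns hρx hk hp2 o hz hzz hkF h2 h3 A
  · intro k hk0
    exact X0_dg c hV ns hk hp2 o hz hzz hkF k hk0
  · intro t ht
    obtain ⟨w, hw, e, he, hze, rfl⟩ := T_dec c hV ns hk hp2 o hz hzz ht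
    exact ⟨w, hw, e, ⟨he, (hcz e).mpr hze⟩, rfl⟩

end Main

end Cfsg.Agent.H213.Qd
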