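import Cfsg.Agent.H213.Qd2
import Cfsg.Agent.H213.Ks
import Cfsg.Agent.H212.QdOver

/-!
# Rank one pushing up for `p ≥ 5`: the structure `G = G₀ × E`, third part
-/

set_option autoImplicit false
set_option linter.unusedSectionVars false

namespace Cfsg.Agent.H213.Qd

open Subgroup Matrix
open Cfsg.Agent.H260.Psl (dg dg_conj)
open Cfsg.Agent.LieClassical.SLTwoUnipotent (u l u_add u_neg u_zero)
open Cfsg.Agent.H212.QdOver
open scoped commutatorElement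

variable {G : Type*} [Group G] {F : Type*} [Field F] {p : ℕ} {S T : Subgroup G}
  {ρ : G →* SpecialLinearGroup (Fin 2) F} {ψ : G → (Fin 2 → F)} {V₁ X₀ E : Subgroup G}

namespace QD

variable (q : QD F p S T ρ ψ V₁ X₀ E)

include q

theorem psi_one : ψ 1 = 0 := by
  have h := q.add 1 (one_mem _) 1 (one_mem _)
  rw [mul_one] at h
  exact left_eq_add.mp h

theorem psi_inv {v : G} (hv : v ∈ V₁) : ψ v⁻¹ = - ψ v := by
  have h := q.add v hv v⁻¹ (inv_mem hv)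
  rw [mul_inv_cancel, q.psi_one] at h
  exact (neg_eq_of_add_eq_zero_right h.symm).symm

theorem rho_V {v : G} (hv : v ∈ V₁) : ρ v = 1 := by
  have : v ∈ ρ.ker := by rw [q.ker]; exact q.V1T hv
  exact this

theorem psi_inj {v w : G} (hv : v ∈ V₁) (hw : w ∈ V₁) (h : ψ v = ψ w) : v = w := by
  have h1 : ψ (v * w⁻¹) = 0 := by
    rw [q.add v hv w⁻¹ (inv_mem hw), q.psi_inv hw, h, add_neg_cancel]
  exact mul_inv_eq_one.mp (q.inj _ (mul_mem hv (inv_mem hw)) h1)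

theorem mem_VX {g : G} : g ∈ V₁ ⊔ X₀ ↔ ∃ v ∈ V₁, ∃ x ∈ X₀, g = v * x := by
  have := q.V1n
  rw [Subgroup.mem_sup_of_normal_left]
  constructor
  · rintro ⟨v, hv, x, hx, rfl⟩
    exact ⟨v, hv, x, hx, rfl⟩
  · rintro ⟨v, hv, x, hx, rfl⟩
    exact ⟨v, hv, x, hx, rfl⟩

theorem uniq {v v' x x' : G} (hv : v ∈ V₁) (hv' : v' ∈ V₁) (hx : x ∈ X₀) (hx' : x' ∈ X₀)
    (h : v * x = v' * x') : v = v' ∧ x = x' := by
  have h1 : v'⁻¹ * v = x' * x⁻¹ := by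
    have : v'⁻¹ * v = v'⁻¹ * (v * x) * x⁻¹ := by group
    rw [this, h]; group
  have h2 : x' * x⁻¹ ∈ T := by
    rw [← h1]; exact q.V1T (mul_mem (inv_mem hv') hv)
  have h3 := q.X0T _ (mul_mem hx' (inv_mem hx)) h2
  rw [h3] at h1
  exact ⟨(inv_mul_eq_one.mp h1).symm, (mul_inv_eq_one.mp h3).symm⟩

/-- `G₀ = V₁ X₀` is isomorphic to `Qd(F)` -/
theorem iso : Nonempty (↥(V₁ ⊔ X₀) ≃* ↥(Cfsg.qdOver F)) := by
  classical
  have hV1n := q.V1n
  have hex : ∀ g : ↥(V₁ ⊔ X₀), ∃ M : ↥(Cfsg.qdOver F), ∀ v ∈ V₁, ∀ x ∈ X₀, (g : G) = v * x →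
      (M : SpecialLinearGroup (Fin 3) F) = tr (ψ v 0) (ψ v 1) * bl (ρ x) := by
    intro g
    obtain ⟨v, hv, x, hx, hg⟩ := q.mem_VX.mp g.2
    refine ⟨⟨tr (ψ v 0) (ψ v 1) * bl (ρ x), mul_mem (tr_mem _ _) (bl_mem _)⟩, ?_⟩
    intro v' hv' x' hx' hg'
    rw [hg] at hg'
    obtain ⟨rfl, rfl⟩ := q.uniq hv hv' hx hx' hg'
    rfl
  choose θ hθ using hex
  have hmul : ∀ a b, θ (a * b) = θ a * θ b := by
    intro a b
    obtain ⟨v, hv, x, hx, ha⟩ := q.mem_VX.mp a.2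
    obtain ⟨v', hv', x', hx', hb⟩ := q.mem_VX.mp b.2
    apply Subtype.ext
    have h1 := hθ a v hv x hx ha
    have h2 := hθ b v' hv' x' hx' hb
    have h3 := hθ (a * b) (v * (x * v' * x⁻¹)) (mul_mem hv (hV1n.conj_mem v' hv' x)) (x * x')
      (mul_mem hx hx') (by rw [Subgroup.coe_mul, ha, hb]; group)
    rw [Subgroup.coe_mul, h1, h2, h3, q.add _ hv _ (hV1n.conj_mem v' hv' x), q.act _ _ hv', map_mul, bl_mul]
    have e : tr (ψ v 0) (ψ v 1) * bl (ρ x) * (tr (ψ v' 0) (ψ v' 1) * bl (ρ x')) =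
        tr (ψ v 0) (ψ v 1) * (bl (ρ x) * tr (ψ v' 0) (ψ v' 1)) * bl (ρ x') := by group
    rw [e, bl_mul_tr, ← mul_assoc (tr _ _), ← mul_assoc, tr_mul]
    have k1 : (ψ v + (ρ x).1.mulVec (ψ v')) 0 = ψ v 0 + ((ρ x).1 0 0 * ψ v' 0 + (ρ x).1 0 1 * ψ v' 1) := by
      simp [Matrix.mulVec, dotProduct, Fin.sum_univ_two]
    have k2 : (ψ v + (ρ x).1.mulVec (ψ v')) 1 = ψ v 1 + ((ρ x).1 1 0 * ψ v' 0 + (ρ x).1 1 1 * ψ v' 1) := by
      simp [Matrix.mulVec, dotProduct, Fin.sum_univ_two]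
    rw [k1, k2]
  refine ⟨MulEquiv.ofBijective (MonoidHom.mk' θ hmul) ⟨?_, ?_⟩⟩
  · rw [injective_iff_map_eq_one]
    intro a ha
    change θ a = 1 at ha
    obtain ⟨v, hv, x, hx, hg⟩ := q.mem_VX.mp a.2
    have h1 := hθ a v hv x hx hg
    rw [ha, Subgroup.coe_one] at h1
    have h2 : tr (ψ v 0) (ψ v 1) = tr (0 : F) 0 ∧ ρ x = 1 := by
      have h3 : (tr (ψ v 0) (ψ v 1))⁻¹ = bl (ρ x) := inv_eq_of_mul_eq_one_right h1.symm
      have h4 : (tr (ψ v 0) (ψ v 1))⁻¹ = tr (-ψ v 0) (-ψ v 1) := by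
        rw [inv_eq_iff_mul_eq_one, tr_mul, ← tr_zero]
        congr 1 <;> ring
      have h5 := congrArg Subtype.val (h4.symm.trans h3)
      rw [tr_coe, bl_coe] at h5
      have k1 := congrFun (congrFun h5 0) 2
      have k2 := congrFun (congrFun h5 1) 2
      simp at k1 k2
      rw [k1, k2]
      refine ⟨rfl, ?_⟩
      rw [k1, k2, tr_zero, one_mul] at h1
      apply bl_inj
      rw [← h1, bl_one]
    have h3 := tr_inj h2.1
    have h4 : ψ v = 0 := by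
      funext i
      fin_cases i
      · exact h3.1
      · exact h3.2
    have h5 := q.inj v hv h4
    have h6 : x = 1 := q.X0T x hx (by rw [← q.ker]; exact h2.2)
    apply Subtype.ext
    rw [hg, h5, h6, mul_one]; rfl
  · intro M
    obtain ⟨a, b, A, hM⟩ := exists_of_mem M.2
    obtain ⟨v, hv, hψ⟩ := q.sur ![a, b]
    obtain ⟨x, hx, hρ⟩ := q.X0s A
    refine ⟨⟨v * x, q.mem_VX.mpr ⟨v, hv, x, hx, rfl⟩⟩, ?_⟩
    change θ _ = M
    apply Subtype.ext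
    rw [hθ _ v hv x hx rfl, hψ, hρ, hM]
    rfl

/-- the line `D` -/
def Dl (q : QD F p S T ρ ψ V₁ X₀ E) : Subgroup G where
  carrier := {v | v ∈ V₁ ∧ ψ v 1 = 0}
  one_mem' := ⟨one_mem _, by rw [q.psi_one]; rfl⟩
  mul_mem' := by
    rintro a b ⟨ha, ha'⟩ ⟨hb, hb'⟩
    refine ⟨mul_mem ha hb, ?_⟩
    rw [q.add a ha b hb, Pi.add_apply, ha', hb', add_zero]
  inv_mem' := by
    rintro a ⟨ha, ha'⟩
    refine ⟨inv_mem ha, ?_⟩
    rw [q.psi_inv ha, Pi.neg_apply, ha', neg_zero]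

theorem u_mv (a : F) (v : Fin 2 → F) : (u a).1.mulVec v = ![v 0 + a * v 1, v 1] := by
  funext i
  fin_cases i <;> simp [u, Matrix.mulVec, dotProduct, Fin.sum_univ_two]

/-- commutators in `P` -/
theorem comm_psi (hab : ∀ s ∈ X₀, s ∈ S → ∀ s' ∈ X₀, s' ∈ S → s * s' = s' * s) {v v' s s' : G}
    (hv : v ∈ V₁) (hv' : v' ∈ V₁) (hs : s ∈ X₀) (hsS : s ∈ S) (hs' : s' ∈ X₀) (hsS' : s' ∈ S) {β β' : F}
    (hβ : ρ s = u β) (hβ' : ρ s' = u β') :
    (v * s) * (v' * s') * (v * s)⁻¹ * (v' * s')⁻¹ ∈ V₁ ∧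
    ψ ((v * s) * (v' * s') * (v * s)⁻¹ * (v' * s')⁻¹) = ![β * ψ v' 1 - β' * ψ v 1, 0] := by
  have hV1n := q.V1n
  have k : s * s' * s⁻¹ = s' := by rw [hab s hs hsS s' hs' hsS', mul_inv_cancel_right]
  have e : (v * s) * (v' * s') * (v * s)⁻¹ * (v' * s')⁻¹ =
      v * (s * v' * s⁻¹) * (s' * v⁻¹ * s'⁻¹) * v'⁻¹ := by
    calc (v * s) * (v' * s') * (v * s)⁻¹ * (v' * s')⁻¹
        = v * (s * v' * s⁻¹) * ((s * s' * s⁻¹) * v⁻¹ * s'⁻¹) * v'⁻¹ := by group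
      _ = _ := by rw [k]
  have m1 := hV1n.conj_mem v' hv' s
  have m2 := hV1n.conj_mem v⁻¹ (inv_mem hv) s'
  rw [e]
  refine ⟨mul_mem (mul_mem (mul_mem hv m1) m2) (inv_mem hv'), ?_⟩
  rw [q.add _ (mul_mem (mul_mem hv m1) m2) _ (inv_mem hv'), q.add _ (mul_mem hv m1) _ m2,
    q.add _ hv _ m1, q.act s v' hv', q.act s' v⁻¹ (inv_mem hv), hβ, hβ', q.psi_inv hv, q.psi_inv hv',
    q.u_mv, q.u_mv]
  funext i
  fin_cases i
  · simp [Matrix.vecHead]; ring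
  · simp [Matrix.vecHead, Matrix.vecTail]

/-- the data of `Ks` -/
theorem dp (hTS : T ≤ S) (hρS : ∀ s ∈ S, ∃ a, ρ s = u a) (hρS' : ∀ s a, ρ s = u a → s ∈ S)
    (hab : ∀ s ∈ X₀, s ∈ S → ∀ s' ∈ X₀, s' ∈ S → s * s' = s' * s) :
    Ks.Dp S (V₁ ⊔ (X₀ ⊓ S)) E q.Dl := by
  have hV1n := q.V1n
  have hP : ∀ g : G, g ∈ V₁ ⊔ (X₀ ⊓ S) ↔ ∃ v ∈ V₁, ∃ s, s ∈ X₀ ∧ s ∈ S ∧ g = v * s := by
    intro g
    rw [Subgroup.mem_sup_of_normal_left]
    constructor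
    · rintro ⟨v, hv, x, ⟨hx, hx'⟩, rfl⟩
      exact ⟨v, hv, x, hx, hx', rfl⟩
    · rintro ⟨v, hv, x, hx, hx', rfl⟩
      exact ⟨v, hv, x, ⟨hx, hx'⟩, rfl⟩
  have hDV : ∀ d, d ∈ q.Dl ↔ d ∈ V₁ ∧ ψ d 1 = 0 := fun d => Iff.rfl
  refine
    { PS := sup_le (q.V1T.trans hTS) inf_le_right, ES := q.ET.trans hTS, dec := ?_, comm := ?_, cap := ?_,
      DP := ?_, cD := ?_, alt := ?_, nc := ?_, D1 := ?_ }
  · intro s hs
    obtain ⟨v, hv, x, hx, e, he, rfl⟩ := q.dec s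
    have hxS : x ∈ S := by
      have h1 : x = v⁻¹ * (v * x * e) * e⁻¹ := by group
      rw [h1]
      exact mul_mem (mul_mem (inv_mem (hTS (q.V1T hv))) hs) (inv_mem (hTS (q.ET he)))
    exact ⟨v * x, (hP _).mpr ⟨v, hv, x, hx, hxS, rfl⟩, e, he, rfl⟩
  · intro a ha e he
    obtain ⟨v, hv, s, hs, hsS, rfl⟩ := (hP a).mp ha
    have k1 : Commute e v := q.V1c v hv e (q.ET he)
    have k2 : Commute s e := q.X0E s hs e he
    exact (k1.mul_right k2.symm).eq.symm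
  · intro a ha haE
    obtain ⟨v, hv, s, hs, hsS, rfl⟩ := (hP a).mp ha
    have h1 : s ∈ T := by
      have : s = v⁻¹ * (v * s) := by group
      rw [this]; exact mul_mem (inv_mem (q.V1T hv)) (q.ET haE)
    have h2 := q.X0T s hs h1
    rw [h2, mul_one] at haE ⊢
    exact q.V1E v hv haE
  · intro d hd
    exact le_sup_left (a := V₁) hd.1
  · intro a ha b hb
    obtain ⟨v, hv, s, hs, hsS, rfl⟩ := (hP a).mp ha
    obtain ⟨v', hv', s', hs', hsS', rfl⟩ := (hP b).mp hb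
    obtain ⟨β, hβ⟩ := hρS s hsS
    obtain ⟨β', hβ'⟩ := hρS s' hsS'
    obtain ⟨h1, h2⟩ := q.comm_psi hab hv hv' hs hsS hs' hsS' hβ hβ'
    refine ⟨h1, ?_⟩
    rw [h2]; rfl
  · intro a ha
    obtain ⟨v, hv, s, hs, hsS, rfl⟩ := (hP a).mp ha
    obtain ⟨β, hβ⟩ := hρS s hsS
    by_cases hβ0 : β = 0
    · have hs1 : s = 1 := by
        apply q.X0T s hs
        rw [← q.ker, MonoidHom.mem_ker, hβ, hβ0, u_zero]
      by_cases hγ : ψ v 1 = 0
      · left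
        intro b hb
        obtain ⟨v', hv', s', hs', hsS', rfl⟩ := (hP b).mp hb
        obtain ⟨β', hβ'⟩ := hρS s' hsS'
        obtain ⟨h1, h2⟩ := q.comm_psi hab hv hv' hs hsS hs' hsS' hβ hβ'
        have h3 := q.inj _ h1 (by rw [h2, hβ0, hγ]; funext i; fin_cases i <;> simp)
        rw [mul_inv_eq_one, mul_inv_eq_iff_eq_mul] at h3
        exact h3
      · right
        rintro d ⟨hd, hd'⟩
        obtain ⟨s', hs', hβ'⟩ := q.X0s (u (-(ψ d 0) / ψ v 1))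
        have hsS' := hρS' _ _ hβ'
        refine ⟨s', (hP _).mpr ⟨1, one_mem _, s', hs', hsS', by rw [one_mul]⟩, ?_⟩
        obtain ⟨h1, h2⟩ := q.comm_psi hab hv (one_mem V₁) hs hsS hs' hsS' hβ hβ'
        rw [one_mul] at h1 h2
        apply q.psi_inj h1 hd
        rw [h2, hβ0]
        funext i
        fin_cases i
        · simp
          field_simp
        · exact hd'.symm
    · right
      rintro d ⟨hd, hd'⟩
      obtain ⟨v', hv', hψ'⟩ := q.sur ![0, ψ d 0 / β]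
      refine ⟨v', (hP _).mpr ⟨v', hv', 1, one_mem _, one_mem _, by rw [mul_one]⟩, ?_⟩
      obtain ⟨h1, h2⟩ := q.comm_psi hab hv hv' hs hsS (one_mem X₀) (one_mem S) hβ (β' := 0)
        (by rw [map_one, u_zero])
      rw [mul_one] at h1 h2
      apply q.psi_inj h1 hd
      rw [h2, hψ']
      funext i
      fin_cases i
      · simp
        field_simp
      · exact hd'.symm
  · obtain ⟨v, hv, hψ⟩ := q.sur ![0, 1]
    obtain ⟨s, hs, hβ⟩ := q.X0s (u 1)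
    have hsS := hρS' _ _ hβ
    refine ⟨s, (hP _).mpr ⟨1, one_mem _, s, hs, hsS, by rw [one_mul]⟩, v,
      (hP _).mpr ⟨v, hv, 1, one_mem _, one_mem _, by rw [mul_one]⟩, ?_⟩
    intro h
    obtain ⟨h1, h2⟩ := q.comm_psi hab (one_mem V₁) hv hs hsS (one_mem X₀) (one_mem S) hβ (β' := 0)
        (by rw [map_one, u_zero])
    rw [one_mul, mul_one] at h2
    have h3 : s * v * s⁻¹ * v⁻¹ = 1 := by rw [h]; group
    rw [h3, q.psi_one, hψ] at h2
    have := congrFun h2 0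
    simp at this
  · obtain ⟨v, hv, hψ⟩ := q.sur ![1, 0]
    refine ⟨v, ⟨hv, by rw [hψ]; rfl⟩, ?_⟩
    rintro rfl
    rw [q.psi_one] at hψ
    have := congrFun hψ 0
    simp at this

/-- `E` is normal -/
theorem E_normal : E.Normal := by
  constructor
  intro e he g
  obtain ⟨v, hv, x, hx, e', he', rfl⟩ := q.dec g
  have k1 : Commute (e' * e * e'⁻¹) v := q.V1c v hv _ (q.ET (mul_mem (mul_mem he' he) (inv_mem he')))
  have k2 : Commute x (e' * e * e'⁻¹) := q.X0E x hx _ (mul_mem (mul_mem he' he) (inv_mem he'))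
  have e1 : v * x * e' * e * (v * x * e')⁻¹ = v * (x * (e' * e * e'⁻¹) * x⁻¹) * v⁻¹ := by group
  rw [e1, k2.eq, mul_inv_cancel_right, ← k1.eq, mul_inv_cancel_right]
  exact mul_mem (mul_mem he' he) (inv_mem he')

/-- elements of `V₁ X₀` commute with `E` -/
theorem VX_comm {a e : G} (ha : a ∈ V₁ ⊔ X₀) (he : e ∈ E) : a * e = e * a := by
  obtain ⟨v, hv, x, hx, rfl⟩ := q.mem_VX.mp ha
  have k1 : Commute e v := q.V1c v hv e (q.ET he)
  have k2 : Commute x e := q.X0E x hx e he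
  exact (k1.mul_right k2.symm).eq.symm

theorem VX_cap : (V₁ ⊔ X₀) ⊓ E = ⊥ := by
  rw [eq_bot_iff]
  rintro a ⟨ha, haE⟩
  obtain ⟨v, hv, x, hx, rfl⟩ := q.mem_VX.mp ha
  have h1 : x ∈ T := by
    have : x = v⁻¹ * (v * x) := by group
    rw [this]; exact mul_mem (inv_mem (q.V1T hv)) (q.ET haE)
  have h2 := q.X0T x hx h1
  rw [h2, mul_one] at haE ⊢
  exact mem_bot.mpr (q.V1E v hv haE)

theorem VX_sup : (V₁ ⊔ X₀) ⊔ E = ⊤ := by
  rw [eq_top_iff]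
  intro g _
  obtain ⟨v, hv, x, hx, e, he, rfl⟩ := q.dec g
  exact mul_mem (le_sup_left (a := V₁ ⊔ X₀) (q.mem_VX.mpr ⟨v, hv, x, hx, rfl⟩))
    (le_sup_right (a := V₁ ⊔ X₀) he)

end QD

end Cfsg.Agent.H213.Qd

namespace Cfsg.Agent.H213.Ks

open Subgroup

/-- transport along an injective homomorphism -/
theorem Dp.map {G H : Type*} [Group G] [Group H] {S P E D : Subgroup G} (h : Dp S P E D) (f : G →* H)
    (hf : Function.Injective f) : Dp (S.map f) (P.map f) (E.map f) (D.map f) := by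
  refine
    { PS := map_mono h.PS, ES := map_mono h.ES, dec := ?_, comm := ?_, cap := ?_, DP := map_mono h.DP,
      cD := ?_, alt := ?_, nc := ?_, D1 := ?_ }
  · rintro _ ⟨s, hs, rfl⟩
    obtain ⟨a, ha, e, he, rfl⟩ := h.dec s hs
    exact ⟨f a, mem_map_of_mem f ha, f e, mem_map_of_mem f he, map_mul f a e⟩
  · rintro _ ⟨a, ha, rfl⟩ _ ⟨e, he, rfl⟩
    rw [← map_mul, h.comm a ha e he, map_mul]
  · rintro _ ⟨a, ha, rfl⟩ ⟨e, he, hae⟩
    have := hf hae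
    subst this
    rw [h.cap e ha he, map_one]
  · rintro _ ⟨a, ha, rfl⟩ _ ⟨b, hb, rfl⟩
    rw [← map_mul, ← map_inv, ← map_mul, ← map_inv, ← map_mul]
    exact mem_map_of_mem f (h.cD a ha b hb)
  · rintro _ ⟨a, ha, rfl⟩
    rcases h.alt a ha with h1 | h1
    · left
      rintro _ ⟨b, hb, rfl⟩
      rw [← map_mul, h1 b hb, map_mul]
    · right
      rintro _ ⟨d, hd, rfl⟩
      obtain ⟨b, hb, rfl⟩ := h1 d hd
      exact ⟨f b, mem_map_of_mem f hb, by simp⟩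
  · obtain ⟨a, ha, b, hb, hab⟩ := h.nc
    refine ⟨f a, mem_map_of_mem f ha, f b, mem_map_of_mem f hb, ?_⟩
    rw [← map_mul, ← map_mul]
    exact fun h1 => hab (hf h1)
  · obtain ⟨d, hd, hd1⟩ := h.D1
    refine ⟨f d, mem_map_of_mem f hd, ?_⟩
    rw [← map_one f]
    exact fun h1 => hd1 (hf h1)

end Cfsg.Agent.H213.Ks
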