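import Cfsg.Agent.Characters.Core
import Cfsg.Agent.Characters.Linear
import Cfsg.Agent.Characters.Brauer
import Cfsg.Agent.Characters.CCBasic

/-!
# A uniform bound for character values at regular elements

`G` finite, `T ≤ G` abelian, `K i` (`i ∈ s`) subgroups such that `C_G(x) = T` for every `x ∈ T`
outside all `K i`.  Then every irreducible character `χ` satisfies
`|χ x| ≤ 3 ^ |s| * |N_G(T) : T|` for all such `x`.

Proof: for linear characters `λ i` of `T` trivial on `K i` with `|λ i x - 1| ^ 2 ≥ 2` the function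
`F = χ|_T * ∏ (λ i - 1)` is a generalized character of `T` which vanishes off the regular elements;
its norm is at most `4 ^ |s| * |N_G(T) : T|`, and a generalized character of an abelian group is
bounded by its norm.
-/

set_option autoImplicit false

open Cfsg Cfsg.Agent.Characters
open scoped ComplexConjugate

namespace Cfsg.Agent.H213.RegBound

universe u

/-- A generalized character of an abelian group is bounded by its norm. -/
theorem norm_apply_le_of_comm {T : Type u} [Group T] [Fintype T]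
    (hc : ∀ a b : T, a * b = b * a) {F : T → ℂ} (hF : IsGeneralizedCharacter T F) (x : T) :
    ‖F x‖ ≤ (Nat.card T : ℝ)⁻¹ * ∑ t : T, ‖F t‖ ^ 2 := by
  classical
  have := Core.finite_irr (G := T)
  have := Fintype.ofFinite (IrrCharacter T)
  obtain ⟨m, hm⟩ := Core.isGeneralizedCharacter_iff.mp hF
  have h1 : classInner F F = ((∑ ψ : IrrCharacter T, ((m ψ : ℝ)) ^ 2 : ℝ) : ℂ) := by
    have hF' : F = ∑ ψ : IrrCharacter T, ((m ψ : ℂ)) • (ψ : T → ℂ) := by
      rw [hm]; simp only [Int.cast_smul_eq_zsmul]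
    rw [hF', Core.classInner_sum_smul_sum_smul]
    push_cast
    refine Finset.sum_congr rfl fun ψ _ => ?_
    rw [map_intCast]
    ring
  have h2 := Core.classInner_self_eq_ofReal F
  rw [h1] at h2
  have h3 : ∑ ψ : IrrCharacter T, ((m ψ : ℝ)) ^ 2 =
      (Nat.card T : ℝ)⁻¹ * ∑ g : T, Complex.normSq (F g) := by exact_mod_cast h2
  have h4 : (Nat.card T : ℝ)⁻¹ * ∑ t : T, ‖F t‖ ^ 2 = ∑ ψ : IrrCharacter T, ((m ψ : ℝ)) ^ 2 := by
    rw [h3]
    congr 1
    exact Finset.sum_congr rfl fun t _ => (Complex.normSq_eq_norm_sq _).symm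
  rw [h4]
  have h5 : F x = ∑ ψ : IrrCharacter T, (m ψ : ℂ) * (ψ : T → ℂ) x := by
    conv_lhs => rw [hm]
    simp [Finset.sum_apply]
  rw [h5]
  refine (norm_sum_le _ _).trans (Finset.sum_le_sum fun ψ _ => ?_)
  obtain ⟨f, hf⟩ := CCBasic.exists_hom_of_comm hc ψ.2
  rw [norm_mul, hf, Linear.norm_hom_apply, mul_one, Complex.norm_intCast]
  by_cases h0 : m ψ = 0
  · rw [h0]; simp
  · have h6 : (1 : ℝ) ≤ |(m ψ : ℝ)| := by
      have : (1 : ℤ) ≤ |m ψ| := Int.one_le_abs h0
      exact_mod_cast this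
    rw [← sq_abs]
    nlinarith

/-- A linear character of an abelian group, trivial on `K`, which is far from `1` at `x ∉ K`. -/
theorem exists_hom_far {T : Type u} [Group T] [Finite T] (hc : ∀ a b : T, a * b = b * a)
    (K : Subgroup T) {x : T} (hx : x ∉ K) :
    ∃ l : T →* ℂˣ, (∀ k ∈ K, l k = 1) ∧ 2 ≤ ‖(l x : ℂ) - 1‖ ^ 2 := by
  classical
  let _ : CommGroup T := { (inferInstance : Group T) with mul_comm := hc }
  have hne : (QuotientGroup.mk x : T ⧸ K) ≠ 1 := by
    intro h
    exact hx ((QuotientGroup.eq_one_iff x).mp h)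
  obtain ⟨φ, hφ⟩ := CommGroup.exists_apply_ne_one_of_hasEnoughRootsOfUnity (T ⧸ K) ℂ hne
  let l0 : T →* ℂˣ := φ.comp (QuotientGroup.mk' K)
  have hl0 : ∀ k ∈ K, l0 k = 1 := by
    intro k hk
    have : (QuotientGroup.mk k : T ⧸ K) = 1 := (QuotientGroup.eq_one_iff k).mpr hk
    show φ (QuotientGroup.mk' K k) = 1
    rw [QuotientGroup.mk'_apply, this, map_one]
  set z : ℂ := (l0 x : ℂ) with hz
  have hz1 : z ≠ 1 := by
    intro h
    apply hφ
    have : (φ (QuotientGroup.mk x) : ℂ) = 1 := h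
    exact Units.val_eq_one.mp this
  have hn : 0 < Nat.card T := Nat.card_pos
  have hzn : z ^ Nat.card T = 1 := by
    rw [hz, ← Units.val_pow_eq_pow_val, ← map_pow, pow_card_eq_one', map_one, Units.val_one]
  have hsum : ∑ j ∈ Finset.range (Nat.card T), z ^ j = 0 := by
    have := mul_geom_sum z (Nat.card T)
    rw [hzn, sub_self] at this
    rcases mul_eq_zero.mp this with h | h
    · exact absurd (sub_eq_zero.mp h) hz1
    · exact h
  have hnz : ‖z‖ = 1 := Linear.norm_hom_apply l0 x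
  have hsq : ∀ j : ℕ, ‖z ^ j - 1‖ ^ 2 = 2 - 2 * (z ^ j).re := by
    intro j
    have h1 : ‖z ^ j‖ = 1 := by rw [norm_pow, hnz, one_pow]
    have h2 : (z ^ j).re ^ 2 + (z ^ j).im ^ 2 = 1 := by
      have := Complex.normSq_eq_norm_sq (z ^ j)
      rw [h1, Complex.normSq_apply] at this
      nlinarith
    rw [← Complex.normSq_eq_norm_sq, Complex.normSq_apply]
    simp only [Complex.sub_re, Complex.sub_im, Complex.one_re, Complex.one_im]
    nlinarith
  have htot : ∑ j ∈ Finset.range (Nat.card T), ‖z ^ j - 1‖ ^ 2 = ∑ _j ∈ Finset.range (Nat.card T),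
      (2 : ℝ) := by
    rw [Finset.sum_congr rfl fun j _ => hsq j, Finset.sum_sub_distrib, ← Finset.mul_sum]
    have : ∑ j ∈ Finset.range (Nat.card T), (z ^ j).re = 0 := by
      rw [← Complex.re_sum, hsum, Complex.zero_re]
    rw [this]
    ring
  obtain ⟨j, -, hj⟩ := Finset.exists_le_of_sum_le
    (Finset.nonempty_range_iff.mpr hn.ne') htot.symm.le
  refine ⟨l0 ^ j, ?_, ?_⟩
  · intro k hk
    rw [MonoidHom.pow_apply, hl0 k hk, one_pow]
  · rw [MonoidHom.pow_apply, Units.val_pow_eq_pow_val]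
    exact hj

/-- The sum of `|χ|²` over elements of `T` with centralizer `T` is at most `|N_G(T)|`. -/
theorem sum_reg_le {G : Type u} [Group G] [Fintype G] (T : Subgroup G) (R : Finset G)
    (hR : ∀ x ∈ R, Subgroup.centralizer ({x} : Set G) = T) {χ : G → ℂ}
    (hχ : IsIrrCharacter G χ) :
    ∑ x ∈ R, ‖χ x‖ ^ 2 ≤ (Nat.card (Subgroup.normalizer (T : Set G)) : ℝ) := by
  classical
  have hcf := Core.isIrr_isClassFunction hχ
  have hG : (0 : ℝ) < Nat.card G := by exact_mod_cast Nat.card_pos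
  -- total mass
  have htot : ∑ g : G, ‖χ g‖ ^ 2 = (Nat.card G : ℝ) := by
    have h1 := Core.classInner_irr_self hχ
    have h2 := Core.classInner_self_eq_ofReal χ
    rw [h1] at h2
    have h3 : (1 : ℝ) = (Nat.card G : ℝ)⁻¹ * ∑ g : G, Complex.normSq (χ g) := by exact_mod_cast h2
    have h4 : ∑ g : G, Complex.normSq (χ g) = Nat.card G := by
      field_simp at h3
      linarith
    rw [← h4]
    exact Finset.sum_congr rfl fun t _ => (Complex.normSq_eq_norm_sq _).symm
  -- double counting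
  have h1 : (Nat.card G : ℝ) * ∑ x ∈ R, ‖χ x‖ ^ 2 = ∑ x ∈ R, ∑ g : G, ‖χ (g * x * g⁻¹)‖ ^ 2 := by
    rw [Finset.mul_sum]
    refine Finset.sum_congr rfl fun x _ => ?_
    rw [Finset.sum_congr rfl fun g _ => by rw [hcf x g], Finset.sum_const, Finset.card_univ,
      ← Nat.card_eq_fintype_card, nsmul_eq_mul]
  have h2 : ∑ x ∈ R, ∑ g : G, ‖χ (g * x * g⁻¹)‖ ^ 2 =
      ∑ y : G, ∑ g ∈ Finset.univ.filter (fun g : G => g⁻¹ * y * g ∈ R), ‖χ y‖ ^ 2 := by
    rw [Finset.sum_comm]
    have h3 : ∀ g : G, ∑ x ∈ R, ‖χ (g * x * g⁻¹)‖ ^ 2 =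
        ∑ y : G, if g⁻¹ * y * g ∈ R then ‖χ y‖ ^ 2 else 0 := by
      intro g
      rw [← Finset.sum_filter]
      refine Finset.sum_bij' (fun x _ => g * x * g⁻¹) (fun y _ => g⁻¹ * y * g) ?_ ?_ ?_ ?_ ?_
      · intro x hx
        simp only [Finset.mem_filter, Finset.mem_univ, true_and]
        convert hx using 1
        group
      · intro y hy
        simpa using hy
      · intro x _
        group
      · intro y _
        group
      · intro x _
        rfl
    rw [Finset.sum_congr rfl fun g _ => h3 g, Finset.sum_comm]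
    refine Finset.sum_congr rfl fun y _ => ?_
    rw [← Finset.sum_filter]
  have h3 : ∀ y : G, ∑ g ∈ Finset.univ.filter (fun g : G => g⁻¹ * y * g ∈ R), ‖χ y‖ ^ 2 ≤
      (Nat.card (Subgroup.normalizer (T : Set G)) : ℝ) * ‖χ y‖ ^ 2 := by
    intro y
    rw [Finset.sum_const, nsmul_eq_mul]
    refine mul_le_mul_of_nonneg_right ?_ (by positivity)
    have : (Finset.univ.filter (fun g : G => g⁻¹ * y * g ∈ R)).card ≤
        Nat.card (Subgroup.normalizer (T : Set G)) := by
      rcases (Finset.univ.filter (fun g : G => g⁻¹ * y * g ∈ R)).eq_empty_or_nonempty with h | h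
      · rw [h]; simp
      · obtain ⟨g0, hg0⟩ := h
        simp only [Finset.mem_filter, Finset.mem_univ, true_and] at hg0
        have hinj : ∀ g ∈ Finset.univ.filter (fun g : G => g⁻¹ * y * g ∈ R),
            g0⁻¹ * g ∈ Subgroup.normalizer (T : Set G) := by
          intro g hg
          simp only [Finset.mem_filter, Finset.mem_univ, true_and] at hg
          have e0 := hR _ hg0
          have e1 := hR _ hg
          rw [Subgroup.mem_normalizer_iff]
          intro t
          have k0 : ∀ t : G, t ∈ T ↔ (g0 * t * g0⁻¹) * y = y * (g0 * t * g0⁻¹) := by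
            intro t
            rw [← e0, Subgroup.mem_centralizer_singleton_iff]
            constructor
            · intro h
              calc (g0 * t * g0⁻¹) * y = g0 * (t * (g0⁻¹ * y * g0)) * g0⁻¹ := by group
                _ = g0 * ((g0⁻¹ * y * g0) * t) * g0⁻¹ := by rw [h]
                _ = _ := by group
            · intro h
              calc t * (g0⁻¹ * y * g0) = g0⁻¹ * ((g0 * t * g0⁻¹) * y) * g0 := by group
                _ = g0⁻¹ * (y * (g0 * t * g0⁻¹)) * g0 := by rw [h]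
                _ = _ := by group
          have k1 : ∀ t : G, t ∈ T ↔ (g * t * g⁻¹) * y = y * (g * t * g⁻¹) := by
            intro t
            rw [← e1, Subgroup.mem_centralizer_singleton_iff]
            constructor
            · intro h
              calc (g * t * g⁻¹) * y = g * (t * (g⁻¹ * y * g)) * g⁻¹ := by group
                _ = g * ((g⁻¹ * y * g) * t) * g⁻¹ := by rw [h]
                _ = _ := by group
            · intro h
              calc t * (g⁻¹ * y * g) = g⁻¹ * ((g * t * g⁻¹) * y) * g := by group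
                _ = g⁻¹ * (y * (g * t * g⁻¹)) * g := by rw [h]
                _ = _ := by group
          have e2 : g0 * (g0⁻¹ * g * t * (g0⁻¹ * g)⁻¹) * g0⁻¹ = g * t * g⁻¹ := by group
          rw [k1 t, k0 (g0⁻¹ * g * t * (g0⁻¹ * g)⁻¹), e2]
        have hN : Nat.card (Subgroup.normalizer (T : Set G)) =
            (Finset.univ.filter (fun g : G => g ∈ Subgroup.normalizer (T : Set G))).card := by
          rw [Nat.card_eq_fintype_card, Fintype.card_subtype]
        rw [hN]
        refine Finset.card_le_card_of_injOn (fun g => g0⁻¹ * g) ?_ ?_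
        · intro g hg
          simp only [Finset.coe_filter, Finset.mem_univ, true_and, Set.mem_ofPred_eq]
          exact hinj g hg
        · intro a _ b _ hab
          exact mul_left_cancel hab
    exact_mod_cast this
  have h4 : (Nat.card G : ℝ) * ∑ x ∈ R, ‖χ x‖ ^ 2 ≤
      (Nat.card G : ℝ) * (Nat.card (Subgroup.normalizer (T : Set G)) : ℝ) := by
    rw [h1, h2]
    refine (Finset.sum_le_sum fun y _ => h3 y).trans ?_
    rw [← Finset.mul_sum, htot, mul_comm]
  exact le_of_mul_le_mul_left h4 hG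

/-- **Uniform bound at regular elements**: `T ≤ G` abelian, `C_G(x) = T` for all `x ∈ T` outside
the subgroups `K i`, `i ∈ s`.  Then `|χ x| ≤ 3 ^ |s| * |N_G(T)| / |T|` for these `x`. -/
theorem norm_le {G : Type u} [Group G] [Finite G] (T : Subgroup G)
    (hc : ∀ a ∈ T, ∀ b ∈ T, a * b = b * a) {ι : Type*} (s : Finset ι) (K : ι → Subgroup G)
    (hR : ∀ x ∈ T, (∀ i ∈ s, x ∉ K i) → Subgroup.centralizer ({x} : Set G) = T) {χ : G → ℂ}
    (hχ : IsIrrCharacter G χ) {x : G} (hx : x ∈ T) (hxK : ∀ i ∈ s, x ∉ K i) :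
    ‖χ x‖ ≤ 3 ^ s.card *
      ((Nat.card (Subgroup.normalizer (T : Set G)) : ℝ) / Nat.card T) := by
  classical
  have := Fintype.ofFinite G
  have hcT : ∀ a b : T, a * b = b * a := fun a b => Subtype.ext (hc a a.2 b b.2)
  have hex : ∀ i : ι, ∃ l : T →* ℂˣ, i ∈ s →
      ((∀ k : T, (k : G) ∈ K i → l k = 1) ∧ 2 ≤ ‖(l ⟨x, hx⟩ : ℂ) - 1‖ ^ 2) := by
    intro i
    by_cases hi : i ∈ s
    · obtain ⟨l, hl1, hl2⟩ := exists_hom_far hcT ((K i).subgroupOf T) (x := ⟨x, hx⟩)
        (fun h => hxK i hi (Subgroup.mem_subgroupOf.mp h))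
      exact ⟨l, fun _ => ⟨fun k hk => hl1 k (Subgroup.mem_subgroupOf.mpr hk), hl2⟩⟩
    · exact ⟨1, fun h => absurd h hi⟩
  choose l hl using hex
  -- the generalized character
  let P : Finset ι → T → ℂ := fun u t => ∏ i ∈ u, ((l i t : ℂ) - 1)
  have hP : ∀ u : Finset ι, IsGeneralizedCharacter T (P u) := by
    intro u
    induction u using Finset.induction_on with
    | empty =>
      have : P ∅ = 1 := by funext t; simp [P]
      rw [this]
      exact Brauer.isGeneralizedCharacter_of_isCharacter Core.isCharacter_one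
    | insert i u hi ih =>
      have : P (insert i u) = ((fun t => (l i t : ℂ)) - 1) * P u := by
        funext t
        simp [P, Finset.prod_insert hi]
      rw [this]
      exact Brauer.isGeneralizedCharacter_mul
        (Brauer.isGeneralizedCharacter_sub
          (Brauer.isGeneralizedCharacter_of_isCharacter (Linear.isCharacter_hom (l i)))
          (Brauer.isGeneralizedCharacter_of_isCharacter Core.isCharacter_one)) ih
  let F : T → ℂ := (fun t : T => χ t) * P s
  have hF : IsGeneralizedCharacter T F :=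
    Brauer.isGeneralizedCharacter_mul
      (Brauer.isGeneralizedCharacter_of_isCharacter
        (Brauer.isCharacter_restrict (Core.isIrr_isCharacter hχ) T)) (hP s)
  have hb := norm_apply_le_of_comm hcT hF ⟨x, hx⟩
  -- upper bound for the norm
  have hPle : ∀ t : T, ‖P s t‖ ^ 2 ≤ 4 ^ s.card := by
    intro t
    have h1 : ‖P s t‖ ≤ 2 ^ s.card := by
      show ‖∏ i ∈ s, ((l i t : ℂ) - 1)‖ ≤ _
      rw [norm_prod, ← Finset.prod_const]
      refine Finset.prod_le_prod (fun _ _ => norm_nonneg _) fun i _ => ?_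
      refine (norm_sub_le _ _).trans ?_
      rw [Linear.norm_hom_apply, norm_one]
      norm_num
    calc ‖P s t‖ ^ 2 ≤ (2 ^ s.card) ^ 2 := by
          exact pow_le_pow_left₀ (norm_nonneg _) h1 2
      _ = 4 ^ s.card := by rw [← pow_mul, mul_comm, pow_mul]; norm_num
  let R : Finset G := Finset.univ.filter (fun g : G => g ∈ T ∧ ∀ i ∈ s, g ∉ K i)
  have hRmem : ∀ g : G, g ∈ R ↔ g ∈ T ∧ ∀ i ∈ s, g ∉ K i := by
    intro g; simp [R]
  have hsum : ∑ t : T, ‖F t‖ ^ 2 ≤ 4 ^ s.card * ∑ g ∈ R, ‖χ g‖ ^ 2 := by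
    rw [Finset.mul_sum]
    have h1 : ∑ g ∈ R, (4 : ℝ) ^ s.card * ‖χ g‖ ^ 2 =
        ∑ t : T, if (∀ i ∈ s, (t : G) ∉ K i) then (4 : ℝ) ^ s.card * ‖χ t‖ ^ 2 else 0 := by
      rw [← Finset.sum_filter]
      refine Finset.sum_bij' (fun g hg => (⟨g, ((hRmem g).mp hg).1⟩ : T)) (fun t _ => (t : G))
        ?_ ?_ ?_ ?_ ?_
      · intro g hg
        simp only [Finset.mem_filter, Finset.mem_univ, true_and]
        exact ((hRmem g).mp hg).2
      · intro t ht
        simp only [Finset.mem_filter, Finset.mem_univ, true_and] at ht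
        exact (hRmem t).mpr ⟨t.2, ht⟩
      · intro g _; rfl
      · intro t _; rfl
      · intro g _; rfl
    rw [h1]
    refine Finset.sum_le_sum fun t _ => ?_
    split_ifs with h
    · show ‖χ t * P s t‖ ^ 2 ≤ _
      rw [norm_mul, mul_pow, mul_comm]
      exact mul_le_mul_of_nonneg_right (hPle t) (by positivity)
    · push Not at h
      obtain ⟨i, hi, hti⟩ := h
      have h0 : P s t = 0 := by
        show ∏ i ∈ s, ((l i t : ℂ) - 1) = 0
        refine Finset.prod_eq_zero hi ?_
        rw [(hl i hi).1 t hti]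
        simp
      show ‖χ t * P s t‖ ^ 2 ≤ 0
      rw [h0, mul_zero, norm_zero]
      norm_num
  have hreg := sum_reg_le T R (fun g hg => hR g ((hRmem g).mp hg).1 ((hRmem g).mp hg).2) hχ
  have hT : (0 : ℝ) < Nat.card T := by exact_mod_cast Nat.card_pos
  have hupper : ‖F ⟨x, hx⟩‖ ≤ 4 ^ s.card *
      ((Nat.card (Subgroup.normalizer (T : Set G)) : ℝ) / Nat.card T) := by
    refine hb.trans ?_
    rw [div_eq_inv_mul, mul_left_comm]
    refine mul_le_mul_of_nonneg_left ?_ (by positivity)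
    refine hsum.trans ?_
    exact mul_le_mul_of_nonneg_left hreg (by positivity)
  -- lower bound
  have hlow : (Real.sqrt 2) ^ s.card ≤ ‖P s ⟨x, hx⟩‖ := by
    show _ ≤ ‖∏ i ∈ s, ((l i ⟨x, hx⟩ : ℂ) - 1)‖
    rw [norm_prod, ← Finset.prod_const]
    refine Finset.prod_le_prod (fun _ _ => Real.sqrt_nonneg _) fun i hi => ?_
    exact Real.sqrt_le_iff.mpr ⟨norm_nonneg _, (hl i hi).2⟩
  have hFx : ‖F ⟨x, hx⟩‖ = ‖χ x‖ * ‖P s ⟨x, hx⟩‖ := by
    show ‖χ x * P s ⟨x, hx⟩‖ = _
    rw [norm_mul]
  set C : ℝ := (Nat.card (Subgroup.normalizer (T : Set G)) : ℝ) / Nat.card T with hC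
  have hCn : 0 ≤ C := by positivity
  have hs2 : (0 : ℝ) < (Real.sqrt 2) ^ s.card := by positivity
  have h34 : (4 : ℝ) ^ s.card ≤ 3 ^ s.card * (Real.sqrt 2) ^ s.card := by
    rw [← mul_pow]
    refine pow_le_pow_left₀ (by norm_num) ?_ _
    have : (4 : ℝ) / 3 ≤ Real.sqrt 2 := by
      refine Real.le_sqrt_of_sq_le ?_
      norm_num
    linarith
  have hfin : ‖χ x‖ * (Real.sqrt 2) ^ s.card ≤ (3 ^ s.card * C) * (Real.sqrt 2) ^ s.card := by
    calc ‖χ x‖ * (Real.sqrt 2) ^ s.card ≤ ‖χ x‖ * ‖P s ⟨x, hx⟩‖ :=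
          mul_le_mul_of_nonneg_left hlow (norm_nonneg _)
      _ ≤ 4 ^ s.card * C := by rw [← hFx]; exact hupper
      _ ≤ (3 ^ s.card * (Real.sqrt 2) ^ s.card) * C := mul_le_mul_of_nonneg_right h34 hCn
      _ = _ := by ring
  exact le_of_mul_le_mul_right hfin hs2

end Cfsg.Agent.H213.RegBound
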