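import Cfsg.Agent.H213.AmalNs
import Cfsg.Agent.H213.Chain

/-!
# Rank one pushing up: distance two
-/

set_option autoImplicit false
set_option linter.unusedSectionVars false

namespace Cfsg.Agent.H213.Rk

open Subgroup Cfsg.Agent.H260.Push
open scoped commutatorElement

variable {G : Type*} [Group G]

/-- The data for distance two. -/
structure Two (p q : ℕ) (S T M U U₁ C Y : Subgroup G) : Prop where
  sec : Sec q S T M U U₁ C
  VC : cen T ≤ C
  UT : U ≤ T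
  trivC : ∀ g : G, ∀ x ∈ C, g * x * g⁻¹ * x⁻¹ ∈ cen T
  TU : ∀ t ∈ T, ∀ x ∈ U, t * x * t⁻¹ * x⁻¹ ∈ center G
  YS : Y ≤ S
  SY : S ≤ Y ⊔ T
  YT : ∀ y ∈ Y, ∀ t ∈ T, y * t * y⁻¹ * t⁻¹ ∈ U
  expU : p ≠ 2 → ∀ x ∈ U, x ^ p = 1
  lcs3 : S.lowerCentralSeries 3 ≤ T.lowerCentralSeries 3
  pow : p ≠ 2 → ∀ s ∈ S, ∃ t ∈ T, s ^ (p * p) = t ^ (p * p)
  nc : ∃ y ∈ S, ∃ s ∈ S, y * (s * y * s⁻¹) ≠ (s * y * s⁻¹) * y
  str : ∀ u ∈ U₁, ∃ y ∈ U, ∃ k ∈ C, (∀ b ∈ S, b * y * b⁻¹ * y⁻¹ ∈ center G) ∧ u = y * k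
  ns : (∀ d ∈ comD S T, d ∈ center G → d = 1) →
    (∀ x ∈ C, ∃ v ∈ cen T, ∃ e ∈ C, (∀ g : G, g * e * g⁻¹ * e⁻¹ ∈ center G) ∧ x = v * e) →
    (∀ x ∈ U, ∀ b ∈ S, ∀ b' ∈ S,
      b' * (b * x * b⁻¹ * x⁻¹) * b'⁻¹ * (b * x * b⁻¹ * x⁻¹)⁻¹ ∈ center G) → False

open Cfsg.Agent.MinSimple.PushUp (W Com)
open Cfsg.Agent.Omega.PushUp (Mv Dm)

theorem mv_phi [Finite G] {p q : ℕ} [Fact p.Prime] {S T M : Subgroup G}
    (c : Core p q S T M) (n : Core.Nat' p q S T M)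
    {X : Type*} [Group X] (φ : G →* X) (hφ : Function.Injective φ) (l : G) :
    Mv ((comD S T).map φ) ((cen S).map φ) (φ l) ↔ l ∉ M := by
  have hmem : ∀ (H : Subgroup G) (g : G), φ g ∈ H.map φ ↔ g ∈ H := by
    intro H g
    exact Subgroup.mem_map_iff_mem hφ
  rw [← mv_iff c n l]
  constructor
  · rintro ⟨_, ⟨d, hd, rfl⟩, h1⟩
    refine ⟨d, hd, fun h2 => h1 ?_⟩
    have : Cfsg.Agent.MinSimple.PushUp.cj (φ l) (φ d) = φ (l * d * l⁻¹) := by
      simp [Cfsg.Agent.MinSimple.PushUp.cj]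
    rw [this]
    exact Subgroup.mem_map_of_mem φ h2
  · rintro ⟨d, hd, h1⟩
    refine ⟨φ d, Subgroup.mem_map_of_mem φ hd, fun h2 => h1 ?_⟩
    have : Cfsg.Agent.MinSimple.PushUp.cj (φ l) (φ d) = φ (l * d * l⁻¹) := by
      simp [Cfsg.Agent.MinSimple.PushUp.cj]
    rw [this] at h2
    exact (hmem _ _).mp h2

theorem card_comap {X : Type*} [Group X] (φ : G →* X) (hφ : Function.Injective φ) {H : Subgroup X}
    (hH : H ≤ φ.range) : Nat.card (H.comap φ) = Nat.card H := by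
  have h1 : (H.comap φ).map φ = H := Subgroup.map_comap_eq_self hH
  rw [← Nat.card_congr ((H.comap φ).equivMapOfInjective φ hφ).symm.toEquiv, h1]

set_option maxHeartbeats 1000000 in
theorem exists_two [Finite G] {p q : ℕ} [hp : Fact p.Prime] {S T M : Subgroup G}
    (c : Core p q S T M) (n : Core.Nat' p q S T M) (hV : ∀ x ∈ cen T, x ^ p = 1)
    {X : Type*} [Group X] [Finite X] (φ : G →* X) (hφ : Function.Injective φ) {A : Subgroup X}
    (d : Amal.Dt A φ.range (S.map φ) (T.map φ) ((cen T).map φ) ((cen S).map φ) ((comD S T).map φ))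
    (hc : ∀ m < 1, ∀ w ∈ W A φ.range m, Com ((cen T).map φ) w) {τ : X}
    (hτ : Amal.Cr A φ.range ((cen T).map φ) ((cen S).map φ) ((comD S T).map φ) τ) :
    ∃ U U₁ C Y, Two p q S T M U U₁ C Y := by
  set V' := (cen T).map φ with hV'
  set Z' := (cen S).map φ with hZ'
  set D' := (comD S T).map φ with hD'
  have hmem : ∀ (H : Subgroup G) (g : G), φ g ∈ H.map φ ↔ g ∈ H := by
    intro H g
    exact Subgroup.mem_map_iff_mem hφ
  have hconj : ∀ a b : G, φ (a * b * a⁻¹ * b⁻¹) = φ a * φ b * (φ a)⁻¹ * (φ b)⁻¹ := by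
    intro a b; simp
  have hconj' : ∀ a b : G, φ (a * b * a⁻¹) = φ a * φ b * (φ a)⁻¹ := by
    intro a b; simp
  have hrange : ∀ g : G, φ g ∈ φ.range := fun g => ⟨g, rfl⟩
  have hWT : Amal.Wg A φ.range V' Z' D' ≤ T.map φ := d.Wg_le_Q hc
  have hWr : Amal.Wg A φ.range V' Z' D' ≤ φ.range := hWT.trans (Subgroup.map_le_range φ T)
  have hFc : ∀ f ∈ Dm D' τ, ∀ g : G, φ g = f → g ∈ center G := by
    intro f hf g hg
    rw [mem_center_iff]
    intro k
    apply hφ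
    have h1 := d.F_L hc hτ hf (hrange k)
    have h2 : φ k * f * (φ k)⁻¹ = f := h1
    rw [map_mul, map_mul, hg]
    rw [mul_inv_eq_iff_eq_mul] at h2
    exact h2
  obtain ⟨g₁, hg₁⟩ := c.exists_notMem_M
  have hg₁m : Mv D' Z' (φ g₁) := (mv_phi c n φ hφ g₁).mpr hg₁
  have hUT : (Amal.Wg A φ.range V' Z' D').comap φ ≤ T := by
    intro x hx
    exact (hmem T x).mp (hWT hx)
  have hCr : Amal.CTs d hc ≤ φ.range := (d.CTs_le hc).trans hWr
  have hU₁r : Amal.U1 d hc τ ≤ φ.range := (d.U1_le hc hτ).trans hWr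
  have hUn : ((Amal.Wg A φ.range V' Z' D').comap φ).Normal := by
    constructor
    intro x hx g
    rw [Subgroup.mem_comap] at hx ⊢
    rw [hconj']
    exact d.Wg_L (hrange g) hx
  refine ⟨(Amal.Wg A φ.range V' Z' D').comap φ, (Amal.U1 d hc τ).comap φ, (Amal.CTs d hc).comap φ,
    (V'.map (MulAut.conj (τ * φ g₁ * τ)).toMonoidHom).comap φ, ?_⟩
  refine
    { sec := ?_, VC := ?_, UT := hUT, trivC := ?_, TU := ?_, YS := ?_, SY := ?_, YT := ?_,
      expU := ?_, lcs3 := ?_, pow := ?_, nc := ?_, str := ?_, ns := ?_ }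
  · refine ⟨hUn, ?_, ?_, ?_, ?_, ?_, ?_, ?_, ?_, ?_, ?_, ?_⟩
    · constructor
      intro x hx g
      rw [Subgroup.mem_comap] at hx ⊢
      rw [hconj']
      exact d.CT_L hx (hrange g)
    · exact Subgroup.comap_mono (d.CTs_le_U1 hc τ)
    · exact Subgroup.comap_mono (d.U1_le hc hτ)
    · intro x hx y hy
      rw [Subgroup.mem_comap, hconj]
      obtain ⟨f, hf, h1⟩ := d.Wg_comm hc hτ (φ x) hx (φ y) hy
      have h2 : φ x * φ y * (φ x)⁻¹ = f * φ y := h1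
      rw [h2, mul_inv_cancel_right]
      exact d.Dm_le_CTs hc hτ hf
    · intro t ht x hx
      rw [Subgroup.mem_comap, hconj]
      exact d.Dm_le_CTs hc hτ (d.Q_Wg hc hτ ((hmem T t).mpr ht) hx)
    · intro s hs x hx
      rw [Subgroup.mem_comap, hconj]
      exact d.q1 hc hτ ((hmem S s).mpr hs) hx
    · intro s hs x hx
      rw [Subgroup.mem_comap, hconj]
      exact d.q2 hc hτ ((hmem S s).mpr hs) hx
    · intro s hs hsT x hx h1
      rw [Subgroup.mem_comap, hconj] at h1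
      exact d.fix hc hτ ((hmem S s).mpr hs) (fun h2 => hsT ((hmem T s).mp h2)) hx h1
    · intro g hg
      apply le_antisymm
      · apply sup_le
        · exact Subgroup.comap_mono (d.U1_le hc hτ)
        · have := cj_mono (g := g) (Subgroup.comap_mono (f := φ) (d.U1_le hc hτ))
          rwa [cj_normal g ((Amal.Wg A φ.range V' Z' D').comap φ)] at this
      · intro x hx
        obtain ⟨a, ha, b, hb, h1⟩ := d.sup hc hτ (hrange g) ((mv_phi c n φ hφ g).mpr hg) hx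
        obtain ⟨a', rfl⟩ := hU₁r ha
        obtain ⟨b', rfl⟩ := hU₁r hb
        have h2 : x = (g * a' * g⁻¹) * b' := by
          apply hφ
          rw [map_mul, hconj']
          exact h1
        rw [h2]
        exact mul_mem (mem_sup_right (conj_mem_cj ha)) (mem_sup_left hb)
    · intro g hg x hx hx'
      rw [mem_cj] at hx'
      apply d.inf hc hτ (hrange g) ((mv_phi c n φ hφ g).mpr hg) hx
      change (φ g)⁻¹ * φ x * (φ g)⁻¹⁻¹ ∈ _
      rw [inv_inv, ← map_inv, ← map_mul, ← map_mul]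
      exact hx'
    · have h1 := d.card_U1 hc hτ
      rw [card_comap φ hφ hU₁r, card_comap φ hφ hCr]
      have h2 : Nat.card V' = Nat.card (cen T) :=
        Nat.card_congr ((cen T).equivMapOfInjective φ hφ).symm.toEquiv
      have h3 : Nat.card Z' = Nat.card (cen S) :=
        Nat.card_congr ((cen S).equivMapOfInjective φ hφ).symm.toEquiv
      rw [h2, h3, n.cardX] at h1
      have hpos : 0 < Nat.card (cen S) := Nat.card_pos
      apply Nat.eq_of_mul_eq_mul_right hpos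
      rw [h1]; ring
  · intro x hx
    exact d.V_le_CTs hc (Subgroup.mem_map_of_mem φ hx)
  · intro g x hx
    obtain ⟨v, hv, h1⟩ := (show Amal.CT A φ.range V' Z' D' (φ x) from hx).2 (φ g) (hrange g)
    have h2 : φ g * φ x * (φ g)⁻¹ = v * φ x := h1
    have h3 : φ (g * x * g⁻¹ * x⁻¹) ∈ V' := by
      rw [hconj, h2, mul_inv_cancel_right]
      exact hv
    exact (hmem _ _).mp h3
  · intro t ht x hx
    exact hFc _ (d.Q_Wg hc hτ ((hmem T t).mpr ht) hx) _ (hconj t x)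
  · rintro x ⟨v, hv, hx⟩
    have h1 := d.memB' hc le_rfl (d.word_mem hτ.1 (hrange g₁) hτ.1) hv
    have h2 : φ x ∈ S.map φ := by
      rw [← hx]
      exact h1
    exact (hmem S x).mp h2
  · intro s hs
    obtain ⟨v, hv, q, ⟨t, ht, rfl⟩, h1⟩ := d.Y_B hc hτ (hrange g₁) hg₁m ((hmem S s).mpr hs)
    have h2 : s = (s * t⁻¹) * t := by group
    rw [h2]
    apply mul_mem (mem_sup_left _) (mem_sup_right ht)
    refine ⟨v, hv, ?_⟩
    have h3 : φ (s * t⁻¹) = Cfsg.Agent.MinSimple.PushUp.cj (τ * φ g₁ * τ) v := by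
      rw [map_mul φ s t⁻¹, map_inv φ t, h1, mul_inv_cancel_right]
    rw [h3]
    rfl
  · rintro y ⟨v, hv, hy⟩ t ht
    rw [Subgroup.mem_comap, hconj, ← hy]
    exact d.Y_Q hc hτ (hrange g₁) hg₁m hv ((hmem T t).mpr ht)
  · intro hp2 x hx
    have h1 := d.Wg_pow hc hτ hp.out hp2 (by
      rintro _ ⟨v, hv, rfl⟩
      rw [← map_pow, hV v hv, map_one]) (φ x) hx
    apply hφ
    rw [map_pow, h1, map_one]
  · have h1 := d.B_lcs hc hτ
    rw [← Subgroup.map_lowerCentralSeries, ← Subgroup.map_lowerCentralSeries] at h1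
    exact (Subgroup.map_le_map_iff_of_injective hφ).mp h1
  · intro hp2 s hs
    obtain ⟨_, ⟨t, ht, rfl⟩, h1⟩ := d.B_pow hc hτ hp.out hp2 (by
      rintro _ ⟨v, hv, rfl⟩
      rw [← map_pow, hV v hv, map_one]) (φ s) ((hmem S s).mpr hs)
    refine ⟨t, ht, ?_⟩
    apply hφ
    rw [map_pow, map_pow, h1]
  · obtain ⟨_, ⟨y, hy, rfl⟩, _, ⟨s, hs, rfl⟩, h1⟩ := d.exists_nc hc hτ
    refine ⟨y, hy, s, hs, fun h2 => h1 ?_⟩
    have h3 := congrArg φ h2
    rw [map_mul, map_mul _ _ y, hconj'] at h3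
    exact h3
  · intro u hu
    obtain ⟨v, hv, k, hk, h1⟩ := (d.mem_U1 hc hτ).mp hu
    have h2 : Cfsg.Agent.MinSimple.PushUp.cj τ v ∈ Amal.Wg A φ.range V' Z' D' := Amal.mem_Wg' hτ hv
    obtain ⟨y, hy⟩ := hWr h2
    obtain ⟨k', hk'⟩ := hCr hk
    refine ⟨y, ?_, k', ?_, ?_, ?_⟩
    · rw [Subgroup.mem_comap, hy]; exact h2
    · rw [Subgroup.mem_comap, hk']; exact hk
    · intro b hb
      obtain ⟨f, hf, h3⟩ := d.B_comm hτ ((hmem S b).mpr hb) hv
      apply hFc f hf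
      have h4 : φ b * Cfsg.Agent.MinSimple.PushUp.cj τ v * (φ b)⁻¹ =
        f * Cfsg.Agent.MinSimple.PushUp.cj τ v := h3
      rw [hconj, hy, h4, mul_inv_cancel_right]
    · apply hφ
      rw [map_mul, hy, hk']
      exact h1
  · intro h1 h2 h3
    have hcent : ∀ g ∈ center G, ∀ l ∈ φ.range, Cfsg.Agent.MinSimple.PushUp.cj l (φ g) = φ g := by
      rintro g hg _ ⟨l, rfl⟩
      change φ l * φ g * (φ l)⁻¹ = φ g
      rw [← hconj']
      congr 1
      rw [mem_center_iff.mp hg l]; group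
    apply d.not_split hc hτ
    · rintro _ ⟨e, he, rfl⟩ h4
      have h5 : e ∈ center G := by
        rw [mem_center_iff]
        intro k
        apply hφ
        have h6 := h4 (φ k) (hrange k)
        have h7 : φ k * φ e * (φ k)⁻¹ = φ e := h6
        rw [mul_inv_eq_iff_eq_mul] at h7
        rw [map_mul, map_mul]
        exact h7
      rw [h1 e he h5, map_one]
    · intro x hx
      obtain ⟨x', rfl⟩ := hCr hx
      obtain ⟨v, hv, e, he, h4, rfl⟩ := h2 x' hx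
      refine ⟨φ v, Subgroup.mem_map_of_mem φ hv, φ e, ⟨he, ?_⟩, map_mul φ v e⟩
      rintro _ ⟨l, rfl⟩ k hk
      have h5 : Cfsg.Agent.MinSimple.PushUp.cj (φ l) (φ e) * (φ e)⁻¹ = φ (l * e * l⁻¹ * e⁻¹) := (hconj l e).symm
      rw [h5]
      exact hcent _ (h4 l) k hk
    · rintro x hx _ ⟨b, hb, rfl⟩ _ ⟨b', hb', rfl⟩ l hl
      obtain ⟨x', rfl⟩ := hWr hx
      have h4 := h3 x' hx b hb b' hb'
      have h5 : Cfsg.Agent.MinSimple.PushUp.cj (φ b) (φ x') * (φ x')⁻¹ = φ (b * x' * b⁻¹ * x'⁻¹) :=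
        (hconj b x').symm
      rw [h5]
      have h6 : Cfsg.Agent.MinSimple.PushUp.cj (φ b') (φ (b * x' * b⁻¹ * x'⁻¹)) *
          (φ (b * x' * b⁻¹ * x'⁻¹))⁻¹ = φ (b' * (b * x' * b⁻¹ * x'⁻¹) * b'⁻¹ * (b * x' * b⁻¹ * x'⁻¹)⁻¹) :=
        (hconj b' (b * x' * b⁻¹ * x'⁻¹)).symm
      rw [h6]
      exact hcent _ h4 l hl

end Cfsg.Agent.H213.Rk
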