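import Cfsg.Agent.H213.SubBlk

/-!
# `W_E ≤ J(T')` for the blocks normalised by `J(T')`
-/

set_option autoImplicit false
set_option linter.unusedSectionVars false
set_option linter.unusedVariables false

namespace Cfsg.Agent.H213.WJ

open Cfsg Subgroup
open Cfsg.Agent.H258.Bau Cfsg.Agent.H258.Comm Cfsg.Agent.H258.Sub Cfsg.Agent.H259.Block Cfsg.Agent.H213.BlkTools
open Cfsg.Agent.PLocal.ThompsonJ
open scoped commutatorElement Pointwise

variable {G : Type*} [Group G] [Finite G] {p : ℕ} [hp : Fact p.Prime]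

/-- `B ⊔ U` is elementary abelian for commuting elementary abelian `B`, `U` -/
theorem sup_elem {B U : Subgroup G} (hB : IsElementaryAbelian p B) (hU : IsElementaryAbelian p U)
    (hcomm : ∀ u ∈ U, ∀ b ∈ B, u * b = b * u) : IsElementaryAbelian p (B ⊔ U : Subgroup G) := by
  have hAc : ∀ a ∈ B, ∀ b ∈ B, a * b = b * a := fun a ha b hb => isElementaryAbelian_comm hB ha hb
  have hUc : ∀ a ∈ U, ∀ b ∈ U, a * b = b * a := fun a ha b hb => isElementaryAbelian_comm hU ha hb
  have hN : U ≤ normalizer (B : Set G) := by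
    refine le_norm_of fun u hu b hb => ?_
    rw [hcomm u hu b hb, mul_inv_cancel_right]
    exact hb
  rw [isElementaryAbelian_iff]
  constructor
  · intro x hx y hy
    obtain ⟨a, ha, u, hu, rfl⟩ := mul_mem_of_norm hN hx
    obtain ⟨b, hb, v, hv, rfl⟩ := mul_mem_of_norm hN hy
    calc a * u * (b * v) = a * (u * b) * v := by group
      _ = a * (b * u) * v := by rw [hcomm u hu b hb]
      _ = (a * b) * (u * v) := by group
      _ = (b * a) * (v * u) := by rw [hAc a ha b hb, hUc u hu v hv]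
      _ = b * (a * v) * u := by group
      _ = b * (v * a) * u := by rw [hcomm v hv a ha]
      _ = b * v * (a * u) := by group
  · intro x hx
    obtain ⟨a, ha, u, hu, rfl⟩ := mul_mem_of_norm hN hx
    have : Commute a u := (hcomm u hu a ha).symm
    rw [this.mul_pow, isElementaryAbelian_pow hB ha, isElementaryAbelian_pow hU hu, one_mul]

theorem sup_card {B U : Subgroup G} (hcomm : ∀ u ∈ U, ∀ b ∈ B, u * b = b * u) :
    Nat.card ↥(B ⊔ U : Subgroup G) * Nat.card ↥(B ⊓ U) = Nat.card B * Nat.card U := by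
  have hN : U ≤ normalizer (B : Set G) := by
    refine le_norm_of fun u hu b hb => ?_
    rw [hcomm u hu b hb, mul_inv_cancel_right]
    exact hb
  have h1 := Cfsg.Agent.Lib.ProductSet.card_mul_card_inf B U
  have h2 : ((B : Set G) * (U : Set G) : Set G) = ((B ⊔ U : Subgroup G) : Set G) :=
    (coe_mul_of_right_le_normalizer_left B U hN).symm
  rw [h2] at h1
  exact h1

/-- an elementary abelian subgroup commuting with `A` of maximal order lies in `A` -/
theorem le_of_comm {A U : Subgroup G} (hA : A ∈ maxElementaryAbelianSubgroups p G) (hU : IsElementaryAbelian p U)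
    (hcomm : ∀ u ∈ U, ∀ b ∈ A, u * b = b * u) : U ≤ A := by
  obtain ⟨hAel, hmax⟩ := mem_maxElementaryAbelianSubgroups_iff.1 hA
  have h1 := sup_elem hAel hU hcomm
  have h2 := hmax _ h1
  have h3 : A = A ⊔ U := eq_of_le_of_card_ge le_sup_left h2
  rw [h3]
  exact le_sup_right

variable {T : Sylow p G} {E A : Subgroup G}

theorem key (hG : centralizer (pCore p G : Set G) ≤ pCore p G)
    (hE : IsBaumannBlock p (T : Subgroup G) E) (hA : A ∈ maxElementaryAbelianSubgroups p G)
    (hAN : A ≤ normalizer (E : Set G)) :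
    (A ⊓ centralizer (we p E : Set G)) ⊔ we p E ∈ maxElementaryAbelianSubgroups p G ∧
    (∀ w ∈ we p E, (∀ a ∈ A, ⁅w, a⁆ ∈ centralizer (E : Set G)) → w ∈ A) ∧
    Nat.card A * Nat.card ↥(we p E ⊓ centralizer (A : Set G)) =
      Nat.card ↥(we p E) * Nat.card ↥(A ⊓ centralizer (we p E : Set G)) := by
  obtain ⟨hAel, hmax⟩ := mem_maxElementaryAbelianSubgroups_iff.1 hA
  have hWel : IsElementaryAbelian p (we p E) :=
    isElementaryAbelian_mono (omegaOneCenter_isElementaryAbelian _) (we_le hG T E hE)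
  have hWN : A ≤ normalizer (we p E : Set G) := hAN.trans (norm_we E)
  -- the subgroup `Wf`
  have hCN : A ≤ normalizer (centralizer (E : Set G) : Set G) := hAN.trans (normalizer_le_normalizer_centralizer E)
  have hWc : ∀ a ∈ we p E, ∀ b ∈ we p E, a * b = b * a := fun a ha b hb => isElementaryAbelian_comm hWel ha hb
  let Wf : Subgroup G :=
    { carrier := {w | w ∈ we p E ∧ ∀ a ∈ A, ⁅w, a⁆ ∈ centralizer (E : Set G)}
      one_mem' := ⟨one_mem _, fun a _ => by rw [commutatorElement_one_left]; exact one_mem _⟩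
      mul_mem' := by
        rintro x y ⟨hx, hx'⟩ ⟨hy, hy'⟩
        refine ⟨mul_mem hx hy, fun a ha => ?_⟩
        have e1 : ⁅x * y, a⁆ = x * ⁅y, a⁆ * x⁻¹ * ⁅x, a⁆ := by simp only [commutatorElement_def]; group
        have h4 : ⁅y, a⁆ ∈ we p E := by
          rw [commutatorElement_def, show y * a * y⁻¹ * a⁻¹ = y * (a * y⁻¹ * a⁻¹) by group]
          exact mul_mem hy (conj_mem_of_norm (hWN ha) (inv_mem hy))
        rw [e1, hWc x hx _ h4, mul_inv_cancel_right]
        exact mul_mem (hy' a ha) (hx' a ha)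
      inv_mem' := by
        rintro x ⟨hx, hx'⟩
        refine ⟨inv_mem hx, fun a ha => ?_⟩
        have h4 : ⁅x, a⁆ ∈ we p E := by
          rw [commutatorElement_def, show x * a * x⁻¹ * a⁻¹ = x * (a * x⁻¹ * a⁻¹) by group]
          exact mul_mem hx (conj_mem_of_norm (hWN ha) (inv_mem hx))
        have e1 : ⁅x⁻¹, a⁆ = x⁻¹ * ⁅x, a⁆⁻¹ * x := by simp only [commutatorElement_def]; group
        have h5 : x⁻¹ * ⁅x, a⁆⁻¹ * x = ⁅x, a⁆⁻¹ := by
          rw [hWc _ (inv_mem hx) _ (inv_mem h4), inv_mul_cancel_right]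
        rw [e1, h5]
        exact inv_mem (hx' a ha) }
  have hWf : ∀ w, w ∈ Wf ↔ w ∈ we p E ∧ ∀ a ∈ A, ⁅w, a⁆ ∈ centralizer (E : Set G) := fun w => Iff.rfl
  have h1 := Cfsg.Agent.H289.Blk.no_over hE hAel hAN hWf
  have h2 := Cfsg.Agent.H25.BauNorm.offender hA hWel
  have h3 : we p E ⊓ centralizer (A : Set G) ≤ Wf := by
    rintro w ⟨hw, hc⟩
    refine (hWf w).2 ⟨hw, fun a ha => ?_⟩
    rw [commutatorElement_eq_one_iff_mul_comm.2 (hc a ha).symm]
    exact one_mem _
  have h4 : Nat.card ↥(we p E ⊓ centralizer (A : Set G)) ≤ Nat.card Wf :=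
    Nat.card_le_card_of_injective (inclusion h3) (inclusion_injective _)
  have h5 : Nat.card A * Nat.card ↥(we p E ⊓ centralizer (A : Set G)) ≤ Nat.card A * Nat.card Wf :=
    Nat.mul_le_mul_left _ h4
  have h6 : Nat.card A * Nat.card ↥(we p E ⊓ centralizer (A : Set G)) = Nat.card A * Nat.card Wf := by
    apply le_antisymm h5
    refine h1.trans ?_
    rw [mul_comm (Nat.card ↥(we p E))]
    exact h2
  have h7 : Nat.card ↥(we p E ⊓ centralizer (A : Set G)) = Nat.card Wf :=
    Nat.eq_of_mul_eq_mul_left Nat.card_pos h6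
  have h8 : we p E ⊓ centralizer (A : Set G) = Wf := eq_of_le_of_card_ge h3 h7.ge
  have h9 : Nat.card A * Nat.card ↥(we p E ⊓ centralizer (A : Set G)) =
      Nat.card ↥(we p E) * Nat.card ↥(A ⊓ centralizer (we p E : Set G)) := by
    apply le_antisymm
    · exact h5.trans h1
    · rw [mul_comm (Nat.card ↥(we p E))]
      exact h2
  have hcA : we p E ⊓ centralizer (A : Set G) ≤ A :=
    le_of_comm hA (isElementaryAbelian_mono hWel inf_le_left) fun u hu b hb => (hu.2 b hb).symm
  refine ⟨?_, ?_, h9⟩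
  · rw [mem_maxElementaryAbelianSubgroups_iff]
    have hc : ∀ u ∈ we p E, ∀ b ∈ A ⊓ centralizer (we p E : Set G), u * b = b * u := fun u hu b hb => hb.2 u hu
    refine ⟨sup_elem (isElementaryAbelian_mono hAel inf_le_left) hWel hc, fun B hB => (hmax B hB).trans ?_⟩
    have h10 := sup_card hc
    have h11 : (A ⊓ centralizer (we p E : Set G)) ⊓ we p E = we p E ⊓ centralizer (A : Set G) := by
      apply le_antisymm
      · rintro x ⟨⟨hxA, hxc⟩, hxW⟩
        exact ⟨hxW, fun a ha => isElementaryAbelian_comm hAel ha hxA⟩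
      · intro x hx
        exact ⟨⟨hcA hx, fun w hw => hWc w hw x hx.1⟩, hx.1⟩
    rw [h11, mul_comm (Nat.card ↥(A ⊓ centralizer (we p E : Set G))), ← h9] at h10
    exact (Nat.eq_of_mul_eq_mul_right Nat.card_pos h10).ge
  · intro w hw hwa
    apply hcA
    rw [h8]
    exact ⟨hw, hwa⟩

/-- **`W_E ≤ J(T')`** if `J(T')` normalises the block `E` -/
theorem we_le_thompson (hG : centralizer (pCore p G : Set G) ≤ pCore p G)
    (hE : IsBaumannBlock p (T : Subgroup G) E) (T' : Sylow p G)
    (hJ : thompsonSubgroupOf p (T' : Subgroup G) ≤ normalizer (E : Set G)) :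
    we p E ≤ thompsonSubgroupOf p (T' : Subgroup G) := by
  obtain ⟨B, hB, hBS⟩ := exists_max_le_sylow (p := p) T'
  have hBJ : B ≤ thompsonSubgroupOf p (T' : Subgroup G) := by
    rw [thompsonSubgroupOf_sylow_eq T']
    exact le_sSup ⟨hB, hBS⟩
  obtain ⟨h1, -, -⟩ := key hG hE hB (hBJ.trans hJ)
  have h2 : (B ⊓ centralizer (we p E : Set G)) ⊔ we p E ≤ (T' : Subgroup G) := by
    refine sup_le (inf_le_left.trans hBS) ?_
    refine (we_le hG T E hE).trans ((omegaOneCenter_le _).trans ?_)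
    exact Cfsg.Agent.Lib.Cores.pCore_le_sylow T'
  have h3 : (B ⊓ centralizer (we p E : Set G)) ⊔ we p E ≤ thompsonSubgroupOf p (T' : Subgroup G) := by
    rw [thompsonSubgroupOf_sylow_eq T']
    exact le_sSup ⟨h1, h2⟩
  exact le_sup_right.trans h3

theorem we_le_baumann (hG : centralizer (pCore p G : Set G) ≤ pCore p G)
    (hE : IsBaumannBlock p (T : Subgroup G) E) (T' : Sylow p G)
    (hJ : baumannSubgroupOf p (T' : Subgroup G) ≤ normalizer (E : Set G)) :
    we p E ≤ baumannSubgroupOf p (T' : Subgroup G) :=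
  (we_le_thompson hG hE T' ((thompsonSubgroupOf_le_baumann _).trans hJ)).trans (thompsonSubgroupOf_le_baumann _)

end Cfsg.Agent.H213.WJ
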